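import Groth.Agent.SpPushLib.Lift
import Groth.Agent.AlgSpLib.RepBase
import Groth.Agent.AlgSpLib.MorPack

/-!
# The equivalence relation on a glued chart
-/

set_option autoImplicit false
set_option linter.all false
set_option backward.isDefEq.respectTransparency false
set_option backward.isDefEq.respectTransparency.types false

noncomputable section

universe u

open CategoryTheory CategoryTheory.Limits AlgebraicGeometry AlgSp AlgSpLib

namespace Groth.Agent.SpPush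

open Groth.Agent

variable {S : Scheme.{u}}

theorem isPullback_over {A B C D : Over S} {f : A ⟶ B} {g : A ⟶ C} {h : B ⟶ D} {k : C ⟶ D}
    (sq : IsPullback ((yon S).map f) ((yon S).map g) ((yon S).map h) ((yon S).map k)) : IsPullback f g h k :=
  IsPullback.of_map (yon S) ((yon S).map_injective (by simpa using sq.w)) sq

/-- The kernel pairs of two charts of a cartesian square. -/
theorem isPullback_kernelPair {G H : Sp S} {f : G ⟶ H} {W V RW RV : Over S} {x : (yon S).obj W ⟶ G}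
    {q : W ⟶ V} {p : (yon S).obj V ⟶ H} (sq : IsPullback x ((yon S).map q) f p)
    {v₁ v₂ : RW ⟶ W} (hW : IsPullback ((yon S).map v₁) ((yon S).map v₂) x x)
    {r₁ r₂ : RV ⟶ V} (hV : IsPullback ((yon S).map r₁) ((yon S).map r₂) p p)
    (j : RW ⟶ RV) (h₁ : j ≫ r₁ = v₁ ≫ q) (h₂ : j ≫ r₂ = v₂ ≫ q) : IsPullback v₁ j q r₁ := by
  refine (isPullback_over ?_).flip
  have big : IsPullback ((yon S).map v₂ ≫ (yon S).map q) ((yon S).map v₁) p (x ≫ f) :=
    hW.flip.paste_horiz sq.flip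
  rw [sq.w, ← Functor.map_comp, ← h₂, Functor.map_comp] at big
  exact IsPullback.of_right big (by rw [← Functor.map_comp, h₁, Functor.map_comp]) hV.flip

/-- One leg of a glued chart: a chart `W` of a space with its kernel pair, cartesian over the relation. -/
structure Leg {P L : Over S} (s t : L ⟶ P) where
  G : Sp S
  W : Over S
  R : Over S
  w : (yon S).obj W ⟶ G
  r₁ : R ⟶ W
  r₂ : R ⟶ W
  a : W ⟶ P
  a' : R ⟶ L
  sq : IsPullback ((yon S).map r₁) ((yon S).map r₂) w w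
  hs : IsPullback r₁ a' a s
  ht : IsPullback r₂ a' a t

namespace Leg

variable {P L : Over S} {s t : L ⟶ P} (D : Leg s t)

theorem exists_refl {T : Over S} (y : T ⟶ D.W) : ∃ c : T ⟶ L, c ≫ s = y ≫ D.a ∧ c ≫ t = y ≫ D.a := by
  obtain ⟨ρ, hρ⟩ := (yon S).map_surjective (D.sq.lift ((yon S).map y) ((yon S).map y) rfl)
  have e₁ : ρ ≫ D.r₁ = y := (yon S).map_injective (by rw [Functor.map_comp, hρ, D.sq.lift_fst])
  have e₂ : ρ ≫ D.r₂ = y := (yon S).map_injective (by rw [Functor.map_comp, hρ, D.sq.lift_snd])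
  exact ⟨ρ ≫ D.a', by rw [Category.assoc, ← D.hs.w, reassoc_of% e₁],
    by rw [Category.assoc, ← D.ht.w, reassoc_of% e₂]⟩

theorem exists_swap {T : Over S} (ρ : T ⟶ D.R) :
    ∃ c : T ⟶ L, c ≫ s = ρ ≫ D.a' ≫ t ∧ c ≫ t = ρ ≫ D.a' ≫ s := by
  obtain ⟨σ, hσ⟩ := (yon S).map_surjective (D.sq.lift ((yon S).map D.r₂) ((yon S).map D.r₁) D.sq.w.symm)
  have e₁ : σ ≫ D.r₁ = D.r₂ := (yon S).map_injective (by rw [Functor.map_comp, hσ, D.sq.lift_fst])
  have e₂ : σ ≫ D.r₂ = D.r₁ := (yon S).map_injective (by rw [Functor.map_comp, hσ, D.sq.lift_snd])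
  exact ⟨ρ ≫ σ ≫ D.a',
    by rw [Category.assoc, Category.assoc, ← D.hs.w, reassoc_of% e₁, D.ht.w],
    by rw [Category.assoc, Category.assoc, ← D.ht.w, reassoc_of% e₂, D.hs.w]⟩

theorem exists_comp {T : Over S} (y : T ⟶ D.W) (l₁ l₂ : T ⟶ L) (h₁ : l₁ ≫ t = y ≫ D.a) (h₂ : l₂ ≫ s = y ≫ D.a) :
    ∃ c : T ⟶ L, c ≫ s = l₁ ≫ s ∧ c ≫ t = l₂ ≫ t := by
  let ρ := D.ht.lift y l₁ h₁.symm
  let σ := D.hs.lift y l₂ h₂.symm
  obtain ⟨c, hc⟩ := (yon S).map_surjective (D.sq.lift ((yon S).map (ρ ≫ D.r₁)) ((yon S).map (σ ≫ D.r₂)) (by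
    have e₁ : (yon S).map ρ ≫ (yon S).map D.r₂ = (yon S).map y := by rw [← Functor.map_comp, D.ht.lift_fst]
    have e₂ : (yon S).map σ ≫ (yon S).map D.r₁ = (yon S).map y := by rw [← Functor.map_comp, D.hs.lift_fst]
    rw [Functor.map_comp, Functor.map_comp, Category.assoc, Category.assoc, D.sq.w, ← Category.assoc, e₁, ← e₂,
      Category.assoc, D.sq.w]))
  have e₁ : c ≫ D.r₁ = ρ ≫ D.r₁ := (yon S).map_injective (by rw [Functor.map_comp, hc, D.sq.lift_fst])
  have e₂ : c ≫ D.r₂ = σ ≫ D.r₂ := (yon S).map_injective (by rw [Functor.map_comp, hc, D.sq.lift_snd])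
  exact ⟨c ≫ D.a', by rw [Category.assoc, ← D.hs.w, reassoc_of% e₁, D.hs.w, D.ht.lift_snd_assoc],
    by rw [Category.assoc, ← D.ht.w, reassoc_of% e₂, D.ht.w, D.hs.lift_snd_assoc]⟩

end Leg

/-- The relation glued from two legs along a thickening is an equivalence relation. -/
theorem isEtaleEqvRel_of_legs {P L : Over S} {s t : L ⟶ P} (A B : Leg s t) [Etale s.left] [Etale t.left]
    {Z : Over S} {i : Z ⟶ A.W} {j : Z ⟶ B.W} [IsClosedImmersion i.left] [Surjective i.left] [IsAffineHom j.left]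
    (hpo : IsPushout i j A.a B.a)
    {RZ : Over S} {i' : RZ ⟶ A.R} {j' : RZ ⟶ B.R} (hL : IsPushout i' j' A.a' B.a') :
    IsEtaleEqvRel s t := by
  have hn := nice_of_thickening (i := i) (j := j)
  obtain ⟨_, _⟩ := thick_inr hpo
  haveI : Mono B.a := (Over.forget S).mono_of_mono_map (inferInstanceAs (Mono B.a.left))
  have hinj : ∀ (T : Over S) (r r' : T ⟶ L), r ≫ t = r' ≫ t → r ≫ s = r' ≫ s → r = r' := by
    intro T r r' ht hs
    have sq := IsPullback.of_hasPullback B.a (r ≫ s)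
    let y := pullback.fst B.a (r ≫ s)
    let ι := pullback.snd B.a (r ≫ s)
    have e : y ≫ B.a = (ι ≫ r') ≫ s := by rw [Category.assoc, ← hs]; exact sq.w
    let ρ := B.hs.lift y (ι ≫ r) (sq.w.trans (Category.assoc _ _ _).symm)
    let ρ' := B.hs.lift y (ι ≫ r') e
    have e₂ : ρ ≫ B.r₂ = ρ' ≫ B.r₂ := by
      rw [← cancel_mono B.a, Category.assoc, Category.assoc, B.ht.w, B.hs.lift_snd_assoc, B.hs.lift_snd_assoc,
        Category.assoc, Category.assoc, ht]
    have eρ : ρ = ρ' := (yon S).map_injective (B.sq.hom_ext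
      (by rw [← Functor.map_comp, ← Functor.map_comp, B.hs.lift_fst, B.hs.lift_fst])
      (by rw [← Functor.map_comp, ← Functor.map_comp, e₂]))
    have hιr : ι ≫ r = ι ≫ r' := by
      rw [← B.hs.lift_snd y (ι ≫ r) (sq.w.trans (Category.assoc _ _ _).symm), ← B.hs.lift_snd y (ι ≫ r') e]
      exact congrArg (· ≫ B.a') eρ
    exact ((isUH_of_thick B.a).of_isPullback (sq.map (yon S))).eq_of_restrict (IsAlgSpace.yon_obj P)
      ((repWith_yon_map_iff (P := (@Etale : MorphismProperty Scheme.{u})) s).2 inferInstance)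
      (by rw [← Functor.map_comp, ← Functor.map_comp, hs]) hιr
  refine { injective := hinj, equivalence := fun T => ?_, etale_left := ‹_›, etale_right := ‹_› }
  have hrefl : ∃ e : P ⟶ L, e ≫ s = 𝟙 P ∧ e ≫ t = 𝟙 P := by
    obtain ⟨cA, hA₁, hA₂⟩ := A.exists_refl (𝟙 _)
    obtain ⟨cB, hB₁, hB₂⟩ := B.exists_refl (𝟙 _)
    rw [Category.id_comp] at hA₁ hA₂ hB₁ hB₂
    refine ⟨hpo.desc cA cB (hinj _ _ _ ?_ ?_), hpo.hom_ext ?_ ?_, hpo.hom_ext ?_ ?_⟩
    · rw [Category.assoc, Category.assoc, hA₂, hB₂, hpo.w]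
    · rw [Category.assoc, Category.assoc, hA₁, hB₁, hpo.w]
    all_goals simp [hA₁, hA₂, hB₁, hB₂]
  have hsymm : ∃ σ : L ⟶ L, σ ≫ s = t ∧ σ ≫ t = s := by
    obtain ⟨cA, hA₁, hA₂⟩ := A.exists_swap (𝟙 _)
    obtain ⟨cB, hB₁, hB₂⟩ := B.exists_swap (𝟙 _)
    rw [Category.id_comp] at hA₁ hA₂ hB₁ hB₂
    refine ⟨hL.desc cA cB (hinj _ _ _ ?_ ?_), hL.hom_ext ?_ ?_, hL.hom_ext ?_ ?_⟩
    · rw [Category.assoc, Category.assoc, hA₂, hB₂, reassoc_of% hL.w]
    · rw [Category.assoc, Category.assoc, hA₁, hB₁, reassoc_of% hL.w]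
    all_goals simp [hA₁, hA₂, hB₁, hB₂]
  have htrans : ∃ c : pullback t s ⟶ L, c ≫ s = pullback.fst t s ≫ s ∧ c ≫ t = pullback.snd t s ≫ t := by
    let l₁ := pullback.fst t s
    let l₂ := pullback.snd t s
    let q := l₁ ≫ t
    haveI : Etale l₁.left := MorphismProperty.of_isPullback
      ((IsPullback.of_hasPullback t s).map (Over.forget S)).flip ‹Etale s.left›
    haveI : Etale q.left := show Etale (l₁.left ≫ t.left) from inferInstance
    have sA := IsPullback.of_hasPullback A.a q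
    have sB := IsPullback.of_hasPullback B.a q
    have sZ := IsPullback.of_hasPullback i (pullback.fst A.a q)
    have hw : (pullback.fst i (pullback.fst A.a q) ≫ j) ≫ B.a =
        (pullback.snd i (pullback.fst A.a q) ≫ pullback.snd A.a q) ≫ q := by
      rw [Category.assoc, ← hpo.w, reassoc_of% sZ.w, sA.w, Category.assoc]
    have hT := isPushout_of_flat hn hpo q sA sB sZ (pullback.lift _ _ hw) (pullback.lift_fst _ _ _)
      (pullback.lift_snd _ _ _)
    have hq : l₂ ≫ s = q := pullback.condition.symm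
    obtain ⟨cA, hA₁, hA₂⟩ := A.exists_comp (pullback.fst A.a q) (pullback.snd A.a q ≫ l₁) (pullback.snd A.a q ≫ l₂)
      (by rw [Category.assoc, sA.w]) (by rw [Category.assoc, hq, sA.w])
    obtain ⟨cB, hB₁, hB₂⟩ := B.exists_comp (pullback.fst B.a q) (pullback.snd B.a q ≫ l₁) (pullback.snd B.a q ≫ l₂)
      (by rw [Category.assoc, sB.w]) (by rw [Category.assoc, hq, sB.w])
    rw [Category.assoc] at hA₁ hA₂ hB₁ hB₂
    refine ⟨hT.desc cA cB (hinj _ _ _ ?_ ?_), hT.hom_ext ?_ ?_, hT.hom_ext ?_ ?_⟩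
    · rw [Category.assoc, Category.assoc, hA₂, hB₂, reassoc_of% hT.w]
    · rw [Category.assoc, Category.assoc, hA₁, hB₁, reassoc_of% hT.w]
    all_goals simp [hA₁, hA₂, hB₁, hB₂, l₁, l₂]
  obtain ⟨e, he₁, he₂⟩ := hrefl
  obtain ⟨σ, hσ₁, hσ₂⟩ := hsymm
  obtain ⟨c, hc₁, hc₂⟩ := htrans
  refine ⟨fun x => ⟨x ≫ e, ?_, ?_⟩, ?_, ?_⟩
  · rw [Category.assoc, he₂, Category.comp_id]
  · rw [Category.assoc, he₁, Category.comp_id]
  · rintro x y ⟨r, rfl, rfl⟩
    exact ⟨r ≫ σ, by rw [Category.assoc, hσ₂], by rw [Category.assoc, hσ₁]⟩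
  · rintro x y z ⟨r, rfl, rfl⟩ ⟨r', hr', rfl⟩
    exact ⟨pullback.lift r' r (hr'.symm ▸ rfl) ≫ c, by rw [Category.assoc, hc₂, pullback.lift_snd_assoc],
      by rw [Category.assoc, hc₁, pullback.lift_fst_assoc]⟩

end Groth.Agent.SpPush
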