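import Groth.Agent.EtThickLib.UHEss
import Groth.Agent.UHRepLib.Step
import Groth.Agent.PushLib.BCPullback
import Groth.Agent.PushLib.Props
import Groth.Agent.PushLib.Transfer
import Groth.Agent.AlgSpLib.Descend

/-!
# Pushouts of schemes along closed immersions remain pushouts among algebraic spaces
-/

set_option autoImplicit false
set_option linter.all false
set_option backward.isDefEq.respectTransparency false
set_option backward.isDefEq.respectTransparency.types false

noncomputable section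

universe u

open CategoryTheory CategoryTheory.Limits AlgebraicGeometry AlgSp AlgSpLib

namespace Groth.Agent.SpPush

open Groth.Agent

variable {S : Scheme.{u}} {Z X Y P : Over S} {i : Z ⟶ X} {j : Z ⟶ Y} {a : X ⟶ P} {b : Y ⟶ P}

/-- Two points of an algebraic space on a pushout of schemes which agree on both legs agree. -/
theorem eq_of_pushout (hpo : IsPushout i j a b) {F : Sp S} (hF : IsAlgSpace F) {m m' : (yon S).obj P ⟶ F}
    (ha : (yon S).map a ≫ m = (yon S).map a ≫ m') (hb : (yon S).map b ≫ m = (yon S).map b ≫ m') : m = m' := by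
  let d := prod.lift m m'
  obtain ⟨E, e, fst, sq⟩ : ∃ (E : Over S) (e : E ⟶ P) (fst : (yon S).obj E ⟶ F),
      IsPullback fst ((yon S).map e) (Limits.diag F) d := ⟨_, _, _, hF.diag.isPullback d⟩
  obtain ⟨sX, hsX⟩ := (yon S).map_surjective (sq.lift ((yon S).map a ≫ m) ((yon S).map a)
    (Limits.prod.hom_ext (by simp [d]) (by simp [d, ha])))
  obtain ⟨sY, hsY⟩ := (yon S).map_surjective (sq.lift ((yon S).map b ≫ m) ((yon S).map b)
    (Limits.prod.hom_ext (by simp [d]) (by simp [d, hb])))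
  have eX : sX ≫ e = a := (yon S).map_injective (by rw [Functor.map_comp, hsX, sq.lift_snd])
  have eY : sY ≫ e = b := (yon S).map_injective (by rw [Functor.map_comp, hsY, sq.lift_snd])
  have hZ : i ≫ sX = j ≫ sY := (yon S).map_injective (by
    refine sq.hom_ext ?_ ?_
    · rw [Functor.map_comp, Functor.map_comp, Category.assoc, Category.assoc, hsX, hsY, sq.lift_fst, sq.lift_fst,
        ← (yon S).map_comp_assoc i a, ← (yon S).map_comp_assoc j b, hpo.w]
    · rw [← Functor.map_comp, ← Functor.map_comp, Category.assoc, Category.assoc, eX, eY, hpo.w])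
  have hs : hpo.desc sX sY hZ ≫ e = 𝟙 P := by
    refine hpo.hom_ext ?_ ?_
    · rw [hpo.inl_desc_assoc, eX, Category.comp_id]
    · rw [hpo.inr_desc_assoc, eY, Category.comp_id]
  have key : d = (yon S).map (hpo.desc sX sY hZ) ≫ fst ≫ Limits.diag F := by
    rw [sq.w, ← (yon S).map_comp_assoc, hs, CategoryTheory.Functor.map_id, Category.id_comp]
  have h1 : d ≫ prod.fst = (yon S).map (hpo.desc sX sY hZ) ≫ fst := by
    rw [key]; simp
  have h2 : d ≫ prod.snd = (yon S).map (hpo.desc sX sY hZ) ≫ fst := by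
    rw [key]; simp
  rw [prod.lift_fst] at h1
  rw [prod.lift_snd] at h2
  rw [h1, h2]

theorem forget_isPushout (hpo : IsPushout i j a b) : IsPushout i.left j.left a.left b.left :=
  hpo.map (Over.forget S)

/-- Flat base change of the pushout. -/
theorem isPushout_of_flat [IsClosedImmersion i.left] (hY : ∀ y : Y.left, ∃ p : PushLib.Nice i.left j.left, y ∈ p.V)
    (hpo : IsPushout i j a b) {T : Over S} (q : T ⟶ P) [Flat q.left]
    {XT YT ZT : Over S} {pX : XT ⟶ X} {aT : XT ⟶ T} (hX : IsPullback pX aT a q)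
    {pY : YT ⟶ Y} {bT : YT ⟶ T} (hY' : IsPullback pY bT b q)
    {pZ : ZT ⟶ Z} {iT : ZT ⟶ XT} (hZ : IsPullback pZ iT i pX)
    (jT : ZT ⟶ YT) (h1 : jT ≫ pY = pZ ≫ j) (h2 : jT ≫ bT = iT ≫ aT) : IsPushout iT jT aT bT := by
  have hP := forget_isPushout hpo
  have h := PushLib.isPushout_baseChange hY hP (𝟙 P.left) q.left (PushLib.bcInj_of_flat hY hP (𝟙 P.left) q.left)
    q.left (𝟙 T.left) (IsPullback.of_vert_isIso ⟨by simp⟩) pX.left aT.left (hX.map (Over.forget S))
    pY.left bT.left (hY'.map (Over.forget S)) pZ.left iT.left (hZ.map (Over.forget S)) jT.left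
    (by rw [← Over.comp_left, ← Over.comp_left, h1]) (by rw [← Over.comp_left, ← Over.comp_left, h2])
  exact h.of_map (Over.forget S) h2.symm

/-- The descent step: an etale cover of the pushout on which both legs lift to a chart. -/
theorem exists_desc [IsClosedImmersion i.left] (hY : ∀ y : Y.left, ∃ p : PushLib.Nice i.left j.left, y ∈ p.V)
    (hpo : IsPushout i j a b) {F : Sp S} (hF : IsAlgSpace F) (u : (yon S).obj X ⟶ F) (v : (yon S).obj Y ⟶ F)
    {W : Over S} (w : (yon S).obj W ⟶ F) {P' : Over S} (k : P' ⟶ P) [Etale k.left] [Surjective k.left]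
    {X' Y' Z' : Over S} {pX : X' ⟶ X} {a' : X' ⟶ P'} (hX : IsPullback pX a' a k)
    {pY : Y' ⟶ Y} {b' : Y' ⟶ P'} (hY' : IsPullback pY b' b k)
    {pZ : Z' ⟶ Z} {i' : Z' ⟶ X'} (hZ : IsPullback pZ i' i pX)
    (j' : Z' ⟶ Y') (h1 : j' ≫ pY = pZ ≫ j) (h2 : j' ≫ b' = i' ≫ a')
    (lX : X' ⟶ W) (lY : Y' ⟶ W) (hl : i' ≫ lX = j' ≫ lY)
    (hlX : (yon S).map lX ≫ w = (yon S).map pX ≫ u) (hlY : (yon S).map lY ≫ w = (yon S).map pY ≫ v) :
    ∃ m : (yon S).obj P ⟶ F, (yon S).map a ≫ m = u ∧ (yon S).map b ≫ m = v := by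
  haveI : Flat k.left := inferInstance
  have hpo' := isPushout_of_flat hY hpo k hX hY' hZ j' h1 h2
  let l := hpo'.desc lX lY hl
  let r₁ : pullback k k ⟶ P' := pullback.fst k k
  let r₂ : pullback k k ⟶ P' := pullback.snd k k
  let q : pullback k k ⟶ P := r₁ ≫ k
  haveI : Etale r₁.left :=
    MorphismProperty.of_isPullback ((IsPullback.of_hasPullback k k).map (Over.forget S)).flip ‹Etale k.left›
  haveI : Flat q.left := by
    haveI : Flat r₁.left := inferInstance
    show Flat (r₁.left ≫ k.left)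
    infer_instance
  have sX := IsPullback.of_hasPullback a q
  have sY := IsPullback.of_hasPullback b q
  have sZ := (IsPullback.of_hasPullback i (pullback.fst a q))
  have hw₁ : (pullback.fst i (pullback.fst a q) ≫ j) ≫ b = (pullback.snd i (pullback.fst a q) ≫ pullback.snd a q) ≫ q := by
    rw [Category.assoc, ← hpo.w, reassoc_of% sZ.w, sX.w, Category.assoc]
  have hR := isPushout_of_flat hY hpo q sX sY sZ (pullback.lift _ _ hw₁) (pullback.lift_fst _ _ _)
    (pullback.lift_snd _ _ _)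
  have hk₂ : r₂ ≫ k = q := pullback.condition.symm
  have side : ∀ {X₀ X₀' R₀ : Over S} (pX : X₀' ⟶ X₀) (a' : X₀' ⟶ P') (a : X₀ ⟶ P) (hX : IsPullback pX a' a k)
      (u : (yon S).obj X₀ ⟶ F) (lX : X₀' ⟶ W) (hla : a' ≫ l = lX) (hlX : (yon S).map lX ≫ w = (yon S).map pX ≫ u)
      (x : R₀ ⟶ X₀) (r : R₀ ⟶ pullback k k) (hr : x ≫ a = r ≫ q) (t : pullback k k ⟶ P') (ht : t ≫ k = q),
      (yon S).map r ≫ (yon S).map (t ≫ l) ≫ w = (yon S).map x ≫ u := by
    intro X₀ X₀' R₀ pX a' a hX u lX hla hlX x r hr t ht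
    have h : hX.lift x (r ≫ t) (by rw [hr, Category.assoc, ht]) ≫ lX = r ≫ t ≫ l := by
      rw [← hla, hX.lift_snd_assoc, Category.assoc]
    rw [← (yon S).map_comp_assoc, ← h, (yon S).map_comp_assoc, hlX, ← (yon S).map_comp_assoc, hX.lift_fst]
  have agree : (yon S).map (r₁ ≫ l) ≫ w = (yon S).map (r₂ ≫ l) ≫ w := by
    refine eq_of_pushout hR hF ?_ ?_
    · rw [side pX a' a hX u lX (hpo'.inl_desc _ _ _) hlX _ _ sX.w r₁ rfl,
        side pX a' a hX u lX (hpo'.inl_desc _ _ _) hlX _ _ sX.w r₂ hk₂]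
    · rw [side pY b' b hY' v lY (hpo'.inr_desc _ _ _) hlY _ _ sY.w r₁ rfl,
        side pY b' b hY' v lY (hpo'.inr_desc _ _ _) hlY _ _ sY.w r₂ hk₂]
  have hke : RepWith @Etale ((yon S).map k) :=
    (repWith_yon_map_iff (P := (@Etale : MorphismProperty Scheme.{u})) k).2 inferInstance
  have hks : RepWith @Surjective ((yon S).map k) :=
    (repWith_yon_map_iff (P := (@Surjective : MorphismProperty Scheme.{u})) k).2 inferInstance
  obtain ⟨m, hm⟩ := exists_desc_of_atlas hke hks ((yon S).map l ≫ w) fun T g g' h => by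
    have h' : g ≫ k = g' ≫ k := (yon S).map_injective (by rw [Functor.map_comp, Functor.map_comp, h])
    have e₁ : pullback.lift g g' h' ≫ r₁ = g := pullback.lift_fst _ _ _
    have e₂ : pullback.lift g g' h' ≫ r₂ = g' := pullback.lift_snd _ _ _
    have h₃ : ∀ {r : pullback k k ⟶ P'} {g₀ : T ⟶ P'}, pullback.lift g g' h' ≫ r = g₀ →
        (yon S).map g₀ ≫ (yon S).map l ≫ w = (yon S).map (pullback.lift g g' h') ≫ (yon S).map (r ≫ l) ≫ w := by
      intro r g₀ hr
      rw [← hr, Functor.map_comp, Functor.map_comp, Category.assoc, Category.assoc]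
    rw [h₃ e₁, h₃ e₂, agree]
  refine ⟨m, ?_, ?_⟩
  · haveI := EtThickLib.epi_of_cover (repWith_of_isPullback (hX.map (yon S)).flip hke)
      (repWith_of_isPullback (hX.map (yon S)).flip hks)
    rw [← cancel_epi ((yon S).map pX), ← hlX, ← (yon S).map_comp_assoc pX a, hX.w, (yon S).map_comp_assoc, hm,
      ← (yon S).map_comp_assoc a' l, hpo'.inl_desc]
  · haveI := EtThickLib.epi_of_cover (repWith_of_isPullback (hY'.map (yon S)).flip hke)
      (repWith_of_isPullback (hY'.map (yon S)).flip hks)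
    rw [← cancel_epi ((yon S).map pY), ← hlY, ← (yon S).map_comp_assoc pY b, hY'.w, (yon S).map_comp_assoc, hm,
      ← (yon S).map_comp_assoc b' l, hpo'.inr_desc]

/-- The universal property in algebraic spaces, from existence. -/
theorem isPushout_ofScheme (hpo : IsPushout i j a b)
    (hex : ∀ (F : Space S) (u : (yon S).obj X ⟶ F.obj) (v : (yon S).obj Y ⟶ F.obj),
      (yon S).map i ≫ u = (yon S).map j ≫ v →
      ∃ m : (yon S).obj P ⟶ F.obj, (yon S).map a ≫ m = u ∧ (yon S).map b ≫ m = v) :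
    IsPushout ((ofScheme S).map i) ((ofScheme S).map j) ((ofScheme S).map a) ((ofScheme S).map b) := by
  have hw : (ofScheme S).map i ≫ (ofScheme S).map a = (ofScheme S).map j ≫ (ofScheme S).map b := by
    rw [← Functor.map_comp, ← Functor.map_comp, hpo.w]
  choose m hm₁ hm₂ using fun s : PushoutCocone ((ofScheme S).map i) ((ofScheme S).map j) =>
    hex s.pt s.inl.hom s.inr.hom (congrArg (fun t => t.hom) s.condition)
  exact ⟨⟨hw⟩, ⟨PushoutCocone.IsColimit.mk hw (fun s => ObjectProperty.homMk (m s))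
    (fun s => ObjectProperty.hom_ext _ (hm₁ s)) (fun s => ObjectProperty.hom_ext _ (hm₂ s))
    (fun s t h1 h2 => ObjectProperty.hom_ext _ (eq_of_pushout hpo s.pt.property
      (((congrArg (fun t => t.hom) h1) : (yon S).map a ≫ t.hom = s.inl.hom).trans (hm₁ s).symm)
      (((congrArg (fun t => t.hom) h2) : (yon S).map b ≫ t.hom = s.inr.hom).trans (hm₂ s).symm)))⟩⟩

/-- Every point of the pushout comes from one of the legs. -/
theorem exists_preimage [IsClosedImmersion i.left]
    (hY : ∀ y : Y.left, ∃ p : PushLib.Nice i.left j.left, y ∈ p.V)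
    (hpo : IsPushout i j a b) (w : P.left) : (∃ x, a.left x = w) ∨ ∃ y, b.left y = w := by
  have hP := forget_isPushout hpo
  let e := PushLib.Nice.iso hY hP
  obtain ⟨z, rfl⟩ : ∃ z, e.hom z = w :=
    ⟨e.inv w, by rw [← Scheme.Hom.comp_apply, Iso.inv_hom_id]; rfl⟩
  suffices h : (∃ x, (PushLib.Nice.a hY ≫ e.hom) x = e.hom z) ∨ ∃ y, (PushLib.Nice.b hY ≫ e.hom) y = e.hom z by
    simpa only [e, PushLib.Nice.a_iso, PushLib.Nice.b_iso] using h
  obtain ⟨p, t, rfl⟩ := (PushLib.Nice.cover (i := i.left) (j := j.left)).exists_eq z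
  rcases p.sq.exists_prime_over t with ⟨R, hR⟩ | ⟨Q, -, hQ, -, -⟩
  · refine Or.inr ⟨p.hV.fromSpec R, ?_⟩
    rw [Scheme.Hom.comp_apply, ← Scheme.Hom.comp_apply p.hV.fromSpec, PushLib.Nice.fromSpec_b hY p,
      Scheme.Hom.comp_apply]
    exact congrArg (fun s => e.hom (p.ι s)) hR
  · refine Or.inl ⟨p.hU.fromSpec Q, ?_⟩
    rw [Scheme.Hom.comp_apply, ← Scheme.Hom.comp_apply p.hU.fromSpec, PushLib.Nice.fromSpec_a hY p,
      Scheme.Hom.comp_apply]
    exact congrArg (fun s => e.hom (p.ι s)) hQ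

/-- Pushouts along a thickening and an affine morphism. -/
theorem isPushout_of_thickening [IsClosedImmersion i.left] [Surjective i.left] [IsAffineHom j.left]
    (hpo : IsPushout i j a b) :
    IsPushout ((ofScheme S).map i) ((ofScheme S).map j) ((ofScheme S).map a) ((ofScheme S).map b) := by
  refine isPushout_ofScheme hpo fun F u v huv => ?_
  have hY : ∀ y : Y.left, ∃ p : PushLib.Nice i.left j.left, y ∈ p.V :=
    fun y => PushLib.exists_nice_of_thickening i.left j.left y
  have hF := F.property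
  obtain ⟨W, w, hw, hws⟩ := hF.atlas
  haveI : IsClosedImmersion b.left := PushLib.isClosedImmersion_of_isPushout hY (forget_isPushout hpo)
  haveI : Surjective b.left := ⟨fun p => by
    rcases exists_preimage hY hpo p with ⟨x, rfl⟩ | h
    · obtain ⟨z, rfl⟩ := i.left.surjective x
      exact ⟨j.left z, by rw [← Scheme.Hom.comp_apply, ← Over.comp_left, ← hpo.w, Over.comp_left,
        Scheme.Hom.comp_apply]⟩
    · exact h⟩
  obtain ⟨Y', lY, pY, sqY⟩ := exists_isPullback_yon w v (hF.representable_from_yon w)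
  haveI hpYe : Etale pY.left := (repWith_yon_map_iff (P := (@Etale : MorphismProperty Scheme.{u})) pY).1
    (repWith_of_isPullback sqY hw)
  haveI : Surjective pY.left := (repWith_yon_map_iff (P := (@Surjective : MorphismProperty Scheme.{u})) pY).1
    (repWith_of_isPullback sqY hws)
  obtain ⟨P', k, b', hk, sqk⟩ := EtThickLib.exists_lift_over_uh b
    ((UHRepLib.isUH_yon_map_iff b).2 ⟨inferInstance, inferInstance, inferInstance⟩) pY hpYe
  have hY' : IsPullback pY b' b k := sqk.flip
  haveI : Surjective (b'.left ≫ k.left) := by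
    rw [← Over.comp_left, ← hY'.w, Over.comp_left]
    infer_instance
  haveI : Surjective k.left := Surjective.of_comp b'.left k.left
  haveI := hk
  have hX := IsPullback.of_hasPullback a k
  have hZ := IsPullback.of_hasPullback i (pullback.fst a k)
  have hw₁ : (pullback.fst i (pullback.fst a k) ≫ j) ≫ b = (pullback.snd i (pullback.fst a k) ≫ pullback.snd a k) ≫ k := by
    rw [Category.assoc, ← hpo.w, reassoc_of% hZ.w, hX.w, Category.assoc]
  let j' := hY'.lift _ _ hw₁
  have hii : EtThickLib.IsUH ((yon S).map (pullback.snd i (pullback.fst a k))) :=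
    ((UHRepLib.isUH_yon_map_iff i).2 ⟨inferInstance, inferInstance, inferInstance⟩).of_isPullback (hZ.map (yon S))
  obtain ⟨lX, hlX₁, hlX₂⟩ := hii.exists_extend hF hw (j' ≫ lY) ((yon S).map (pullback.fst a k) ≫ u) (by
    rw [Functor.map_comp, Category.assoc, sqY.w, ← (yon S).map_comp_assoc, hY'.lift_fst, (yon S).map_comp_assoc,
      ← huv, ← (yon S).map_comp_assoc, hZ.w, (yon S).map_comp_assoc])
  exact exists_desc hY hpo hF u v w k hX hY' hZ j' (hY'.lift_fst _ _ _) (hY'.lift_snd _ _ _) lX lY hlX₁ hlX₂ sqY.w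

end Groth.Agent.SpPush
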