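import Groth.Agent.S6900
import Groth.Agent.PushFunLib.Main

/-!
# The map of Ferrand pushouts induced by etale maps is etale
-/

set_option autoImplicit false
set_option linter.all false

universe u

open CategoryTheory CategoryTheory.Limits AlgebraicGeometry

namespace Groth.Agent.SpPush

open Groth.Agent.PushLib

variable {R B A' A Q D C' C : Type u} [CommRing R] [CommRing B] [CommRing A'] [CommRing A] [CommRing Q] [CommRing D]
  [CommRing C'] [CommRing C]

theorem etale_of_square (S : FibSq R B A' A) (T : FibSq Q D C' C) (φ : R →+* Q) (φB : B →+* D) (φA' : A' →+* C')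
    (φA : A →+* C) (hu : T.u.comp φ = φB.comp S.u) (hv : T.v.comp φ = φA'.comp S.v)
    (hq : T.q.comp φB = φA.comp S.q) (hp : T.p.comp φA' = φA.comp S.p)
    (pC : IsPushout (CommRingCat.ofHom φA') (CommRingCat.ofHom S.p) (CommRingCat.ofHom T.p) (CommRingCat.ofHom φA))
    (pD : IsPushout (CommRingCat.ofHom φB) (CommRingCat.ofHom S.q) (CommRingCat.ofHom T.q) (CommRingCat.ofHom φA))
    (hB : φB.Etale) (hA' : φA'.Etale) : φ.Etale := by
  algebraize [S.u, S.v, S.q, T.u, T.v, T.q, φ, φB, φA', φA]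
  letI : Algebra A' A := S.p.toAlgebra
  letI : Algebra C' C := T.p.toAlgebra
  letI : Algebra R A := (S.q.comp S.u).toAlgebra
  letI : Algebra Q C := (T.q.comp T.u).toAlgebra
  letI : Algebra R D := (φB.comp S.u).toAlgebra
  letI : Algebra R C' := (φA'.comp S.v).toAlgebra
  letI : Algebra B C := (T.q.comp φB).toAlgebra
  letI : Algebra A' C := (T.p.comp φA').toAlgebra
  haveI : IsScalarTower R B A := IsScalarTower.of_algebraMap_eq' rfl
  haveI : IsScalarTower R A' A := IsScalarTower.of_algebraMap_eq fun x => S.w x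
  haveI : IsScalarTower Q D C := IsScalarTower.of_algebraMap_eq' rfl
  haveI : IsScalarTower Q C' C := IsScalarTower.of_algebraMap_eq fun x => T.w x
  haveI : IsScalarTower R B D := IsScalarTower.of_algebraMap_eq' rfl
  haveI : IsScalarTower R Q D := IsScalarTower.of_algebraMap_eq' hu.symm
  haveI : IsScalarTower R A' C' := IsScalarTower.of_algebraMap_eq' rfl
  haveI : IsScalarTower R Q C' := IsScalarTower.of_algebraMap_eq' hv.symm
  haveI : IsScalarTower B A C := IsScalarTower.of_algebraMap_eq' hq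
  haveI : IsScalarTower B D C := IsScalarTower.of_algebraMap_eq' rfl
  haveI : IsScalarTower A' A C := IsScalarTower.of_algebraMap_eq' hp
  haveI : IsScalarTower A' C' C := IsScalarTower.of_algebraMap_eq' rfl
  have e₁ : Algebra.IsPushout B D A C := CommRingCat.isPushout_iff_isPushout.1 pD
  have e₂ : Algebra.IsPushout A' C' A C := CommRingCat.isPushout_iff_isPushout.1 pC
  have hS : EtMil.IsFibreSquare R B A' A := ⟨S.surj, fun b a h => by
    obtain ⟨x, h1, h2⟩ := S.lift b a h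
    exact ⟨x, ⟨h1, h2⟩, fun y hy => S.inj y x (hy.1.trans h1.symm) (hy.2.trans h2.symm)⟩⟩
  have hT : EtMil.IsFibreSquare Q D C' C := ⟨T.surj, fun b a h => by
    obtain ⟨x, h1, h2⟩ := T.lift b a h
    exact ⟨x, ⟨h1, h2⟩, fun y hy => T.inj y x (hy.1.trans h1.symm) (hy.2.trans h2.symm)⟩⟩
  have : Algebra.Etale B D := ‹_›
  have : Algebra.Etale A' C' := ‹_›
  have h := (Groth.Agent.S6900.result R B A' A hS Q D C' C hT).2.2.2.2.2 ⟨inferInstance, inferInstance⟩
  exact h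

variable {X Y Z X' Y' Z' : Scheme.{u}} {i : Z ⟶ X} {j : Z ⟶ Y} {i' : Z' ⟶ X'} {j' : Z' ⟶ Y'}
  [IsClosedImmersion i] [IsClosedImmersion i'] {f : X' ⟶ X} {g : Y' ⟶ Y} {h : Z' ⟶ Z}

theorem etale_chart (hX : IsPullback h i' i f) (hY0 : IsPullback h j' j g) [Etale f] [Etale g]
    (hY : ∀ y : Y, ∃ p : Nice i j, y ∈ p.V) (hY' : ∀ y : Y', ∃ p : Nice i' j', y ∈ p.V)
    (π : Nice.P i' j' ⟶ Nice.P i j) (hπa : Nice.a hY' ≫ π = f ≫ Nice.a hY) (hπb : Nice.b hY' ≫ π = g ≫ Nice.b hY)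
    (p : Nice i j) (q : Nice i' j') (hU : q.U ≤ f ⁻¹ᵁ p.U) (hV : q.V ≤ g ⁻¹ᵁ p.V) :
    Etale (q.ι ≫ π) := by
  let gU := f.appLE p.U q.U hU
  let gV := g.appLE p.V q.V hV
  have hZle : i' ⁻¹ᵁ q.U ≤ h ⁻¹ᵁ (i ⁻¹ᵁ p.U) := by
    rw [← Scheme.Hom.comp_preimage, hX.w, Scheme.Hom.comp_preimage]
    exact i'.preimage_mono hU
  let gZ := h.appLE (i ⁻¹ᵁ p.U) (i' ⁻¹ᵁ q.U) hZle
  have eq1 : gV ≫ q.q = p.q ≫ gZ := by
    simp only [gV, gZ, Nice.q, Scheme.Hom.appLE_comp_appLE, hY0.w]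
  have eq2 : gU ≫ q.p' = p.p' ≫ gZ := by
    simp only [gU, gZ, Nice.p', Scheme.Hom.app_eq_appLE, Scheme.Hom.appLE_comp_appLE, hX.w]
  let φ : p.ring →+* q.ring :=
    ((gV.hom.comp p.sq.u).prod (gU.hom.comp p.sq.v)).codRestrict _ fun x => by
      show q.q.hom (gV.hom (p.sq.u x)) = q.p'.hom (gU.hom (p.sq.v x))
      rw [← CommRingCat.comp_apply, ← CommRingCat.comp_apply, eq1, eq2, CommRingCat.comp_apply,
        CommRingCat.comp_apply]
      exact congrArg gZ.hom (p.sq.w x)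
  have hπ : q.ι ≫ π = specMap φ ≫ p.ι := by
    refine q.sq.hom_ext ?_ ?_
    · rw [← Category.assoc, ← Category.assoc, ← Nice.fromSpec_b hY' q, Category.assoc, hπb, ← Category.assoc,
        ← IsAffineOpen.SpecMap_appLE_fromSpec g p.hV q.hV hV, Category.assoc, Nice.fromSpec_b hY p,
        ← Category.assoc, ← Spec.map_comp, ← Spec.map_comp]
      rfl
    · rw [← Category.assoc, ← Category.assoc, ← Nice.fromSpec_a hY' q, Category.assoc, hπa, ← Category.assoc,
        ← IsAffineOpen.SpecMap_appLE_fromSpec f p.hU q.hU hU, Category.assoc, Nice.fromSpec_a hY p,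
        ← Category.assoc, ← Spec.map_comp, ← Spec.map_comp]
      rfl
  have pC : IsPushout gU p.p' q.p' gZ := by
    have := PushFun.isPushout_appLE hX.flip p.hU q.hU hU (p.hU.preimage i) rfl (q.hU.preimage i') rfl hZle
    simpa only [Nice.p', Scheme.Hom.app_eq_appLE] using this
  have pD : IsPushout gV p.q q.q gZ :=
    PushFun.isPushout_appLE hY0.flip p.hV q.hV hV (p.hU.preimage i) p.heq (q.hU.preimage i') q.heq hZle
  have hφ : φ.Etale := etale_of_square p.sq q.sq φ gV.hom gU.hom gZ.hom rfl rfl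
    (congrArg CommRingCat.Hom.hom eq1) (congrArg CommRingCat.Hom.hom eq2) pC pD
    (HasRingHomProperty.appLE @Etale g inferInstance ⟨_, p.hV⟩ ⟨_, q.hV⟩ hV)
    (HasRingHomProperty.appLE @Etale f inferInstance ⟨_, p.hU⟩ ⟨_, q.hU⟩ hU)
  haveI : Etale (specMap φ) := (HasRingHomProperty.Spec_iff (P := @Etale)).2 hφ
  rw [hπ]
  infer_instance

theorem etale_fun (hX : IsPullback h i' i f) (hY0 : IsPullback h j' j g) [Etale f] [Etale g]
    (hY : ∀ y : Y, ∃ p : Nice i j, y ∈ p.V) (hY' : ∀ y : Y', ∃ p : Nice i' j', y ∈ p.V)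
    (π : Nice.P i' j' ⟶ Nice.P i j) (hπa : Nice.a hY' ≫ π = f ≫ Nice.a hY) (hπb : Nice.b hY' ≫ π = g ≫ Nice.b hY) :
    Etale π := by
  have hcov : ∀ w : Nice.P i' j', ∃ (p : Nice i j) (r : Nice i' j'),
      r.U ≤ f ⁻¹ᵁ p.U ∧ r.V ≤ g ⁻¹ᵁ p.V ∧ w ∈ Set.range r.ι := by
    intro w
    obtain ⟨p, z, hz⟩ := (Nice.cover (i := i) (j := j)).exists_eq (π w)
    obtain ⟨q, t, rfl⟩ := (Nice.cover (i := i') (j := j')).exists_eq w
    have hpre : i' ⁻¹ᵁ (f ⁻¹ᵁ p.U) = j' ⁻¹ᵁ (g ⁻¹ᵁ p.V) := by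
      rw [← Scheme.Hom.comp_preimage, ← Scheme.Hom.comp_preimage, ← hX.w, ← hY0.w, Scheme.Hom.comp_preimage,
        Scheme.Hom.comp_preimage, p.heq]
    have hmem : t ∈ q.W (f ⁻¹ᵁ p.U) (g ⁻¹ᵁ p.V) := by
      rcases q.sq.exists_prime_over t with ⟨R, hR⟩ | ⟨Q, -, hQ, -, -⟩
      · refine Or.inl ⟨R, ?_, hR⟩
        show g (q.hV.fromSpec R) ∈ p.V
        rw [← Nice.preimage_b hY p]
        show Nice.b hY (g (q.hV.fromSpec R)) ∈ p.ι.opensRange
        rw [← Scheme.Hom.comp_apply g, ← hπb, Scheme.Hom.comp_apply]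
        refine ⟨z, hz.trans (congrArg π ?_)⟩
        rw [← Scheme.Hom.comp_apply, Nice.fromSpec_b, Scheme.Hom.comp_apply]
        exact (congrArg q.ι hR).symm
      · refine Or.inr ⟨Q, ?_, hQ⟩
        show f (q.hU.fromSpec Q) ∈ p.U
        rw [← Nice.preimage_a hY p]
        show Nice.a hY (f (q.hU.fromSpec Q)) ∈ p.ι.opensRange
        rw [← Scheme.Hom.comp_apply f, ← hπa, Scheme.Hom.comp_apply]
        refine ⟨z, hz.trans (congrArg π ?_)⟩
        rw [← Scheme.Hom.comp_apply, Nice.fromSpec_a, Scheme.Hom.comp_apply]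
        exact (congrArg q.ι hQ).symm
    obtain ⟨r, hrq, hrU, hrV, t', ht'⟩ := q.exists_le _ _ hpre t hmem
    refine ⟨p, r, hrU, hrV, t', ?_⟩
    show r.ι t' = q.ι t
    rw [← Nice.res_ι hrq, Scheme.Hom.comp_apply]
    exact congrArg q.ι ht'
  choose pw rw' hU hV hw using hcov
  let 𝒰 : (Nice.P i' j').OpenCover := Scheme.Cover.mkOfCovers _ (fun w => Spec (.of (rw' w).ring))
    (fun w => (rw' w).ι) (fun w => ⟨w, hw w⟩) (fun w => inferInstance)
  exact IsZariskiLocalAtSource.of_openCover 𝒰 fun w =>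
    etale_chart hX hY0 hY hY' π hπa hπb (pw w) (rw' w) (hU w) (hV w)

end Groth.Agent.SpPush
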