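import Groth.Agent.SpPushLib.Main
import Groth.Agent.SpPushLib.Etale
import Groth.Agent.BootLib.SepSigma
import Groth.Agent.MultiSecLib.Global
import Groth.Agent.AlgSpLib.EtLocProp

/-!
# Pushouts along a closed immersion and an integral morphism
-/

set_option autoImplicit false
set_option linter.all false
set_option backward.isDefEq.respectTransparency false
set_option backward.isDefEq.respectTransparency.types false

noncomputable section

universe u

open CategoryTheory CategoryTheory.Limits AlgebraicGeometry AlgSp AlgSpLib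

namespace Groth.Agent.SpPush

open Groth.Agent

variable {S : Scheme.{u}}

/-- A surjective etale chart by a scheme separated over the base. -/
theorem exists_separated_atlas {F : Sp S} (hF : IsAlgSpace F) :
    ∃ (W : Over S) (w : (yon S).obj W ⟶ F), IsSeparated W.hom ∧ RepWith @Etale w ∧ RepWith @Surjective w := by
  obtain ⟨U, q, hq, hqs⟩ := hF.atlas
  let O : U.left.affineOpens → Scheme.{u} := fun o => o.1.toScheme
  haveI : ∀ o : U.left.affineOpens, IsSeparated (MultiSecLib.piece₀ U o).hom := fun o => by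
    haveI : IsAffine (MultiSecLib.piece₀ U o).left := o.2
    exact MultiSecLib.isSeparated_hom_of_isAffine _
  let W : Over S := Over.mk (Sigma.desc fun o : U.left.affineOpens => o.1.ι ≫ U.hom)
  let c : W ⟶ U := Over.homMk (Sigma.desc fun o : U.left.affineOpens => o.1.ι) (by
    refine Sigma.hom_ext _ _ fun o => ?_
    simp [W])
  have hce : Etale c.left := IsZariskiLocalAtSource.sigmaDesc fun o => inferInstance
  have hcs : Surjective c.left := ⟨fun x => by
    obtain ⟨V, hV, hxV, -⟩ := exists_isAffineOpen_mem_and_subset (X := U.left) (x := x) (U := ⊤) trivial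
    refine ⟨Sigma.ι O ⟨V, hV⟩ ⟨x, hxV⟩, ?_⟩
    show (Sigma.ι O ⟨V, hV⟩ ≫ Sigma.desc fun o : U.left.affineOpens => o.1.ι) ⟨x, hxV⟩ = x
    rw [Sigma.ι_desc]
    rfl⟩
  exact ⟨W, (yon S).map c ≫ q, Groth.Agent.Boot.isSeparated_sigmaDesc _,
    repWith_comp ((repWith_yon_map_iff (P := (@Etale : MorphismProperty Scheme.{u})) c).2 hce) hq,
    repWith_comp ((repWith_yon_map_iff (P := (@Surjective : MorphismProperty Scheme.{u})) c).2 hcs) hqs⟩

theorem isSeparated_of_chart {F : Sp S} {W X X' : Over S} (hW : IsSeparated W.hom) {w : (yon S).obj W ⟶ F}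
    {u : (yon S).obj X ⟶ F} {l : X' ⟶ W} {q : X' ⟶ X} (sq : IsPullback ((yon S).map l) ((yon S).map q) w u) :
    IsSeparated q.left := by
  let WX : Over S := Over.mk (pullback.fst W.hom X.hom ≫ W.hom)
  let p₁ : WX ⟶ W := Over.homMk (pullback.fst W.hom X.hom) rfl
  let p₂ : WX ⟶ X := Over.homMk (pullback.snd W.hom X.hom) pullback.condition.symm
  let m : X' ⟶ WX := Over.homMk (pullback.lift l.left q.left (by rw [Over.w, Over.w]))
    (by
      show pullback.lift l.left q.left _ ≫ pullback.fst W.hom X.hom ≫ W.hom = X'.hom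
      rw [pullback.lift_fst_assoc, Over.w])
  have e₁ : m ≫ p₁ = l := Over.OverMorphism.ext (pullback.lift_fst _ _ _)
  have e₂ : m ≫ p₂ = q := Over.OverMorphism.ext (pullback.lift_snd _ _ _)
  haveI : Mono m := ⟨fun g h e => (yon S).map_injective (sq.hom_ext
    (by rw [← Functor.map_comp, ← Functor.map_comp, ← e₁, ← Category.assoc, e, Category.assoc])
    (by rw [← Functor.map_comp, ← Functor.map_comp, ← e₂, ← Category.assoc, e, Category.assoc]))⟩
  haveI : Mono m.left := inferInstanceAs (Mono ((Over.forget S).map m))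
  haveI : IsSeparated W.hom := hW
  haveI : IsSeparated p₂.left := inferInstanceAs (IsSeparated (pullback.snd W.hom X.hom))
  rw [← e₂, Over.comp_left]
  infer_instance

/-- Pushouts along a closed immersion and an integral morphism. -/
theorem isPushout_of_integral {Z X Y P : Over S} {i : Z ⟶ X} {j : Z ⟶ Y} {a : X ⟶ P} {b : Y ⟶ P}
    [IsClosedImmersion i.left] [IsIntegralHom j.left]
    (hn : ∀ y : Y.left, ∃ p : PushLib.Nice i.left j.left, y ∈ p.V) (hpo : IsPushout i j a b) :
    IsPushout ((ofScheme S).map i) ((ofScheme S).map j) ((ofScheme S).map a) ((ofScheme S).map b) := by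
  refine isPushout_ofScheme hpo fun F u v huv => ?_
  have hP := forget_isPushout hpo
  have hF := F.property
  obtain ⟨W, w, hWsep, hw, hws⟩ := exists_separated_atlas hF
  obtain ⟨X', lX, pX, sqX⟩ := exists_isPullback_yon w u (hF.representable_from_yon w)
  obtain ⟨Y', lY, pY, sqY⟩ := exists_isPullback_yon w v (hF.representable_from_yon w)
  haveI hpXe : Etale pX.left := (repWith_yon_map_iff (P := (@Etale : MorphismProperty Scheme.{u})) pX).1
    (repWith_of_isPullback sqX hw)
  haveI hpYe : Etale pY.left := (repWith_yon_map_iff (P := (@Etale : MorphismProperty Scheme.{u})) pY).1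
    (repWith_of_isPullback sqY hw)
  haveI : Surjective pX.left := (repWith_yon_map_iff (P := (@Surjective : MorphismProperty Scheme.{u})) pX).1
    (repWith_of_isPullback sqX hws)
  haveI : Surjective pY.left := (repWith_yon_map_iff (P := (@Surjective : MorphismProperty Scheme.{u})) pY).1
    (repWith_of_isPullback sqY hws)
  haveI : IsSeparated pX.left := isSeparated_of_chart hWsep sqX
  haveI : IsSeparated pY.left := isSeparated_of_chart hWsep sqY
  have hZ := IsPullback.of_hasPullback i pX
  let pZ : pullback i pX ⟶ Z := pullback.fst i pX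
  let i' : pullback i pX ⟶ X' := pullback.snd i pX
  have sqZ : IsPullback ((yon S).map i' ≫ (yon S).map lX) ((yon S).map pZ) w ((yon S).map j ≫ v) := by
    rw [← huv]
    exact (hZ.map (yon S)).flip.paste_horiz sqX
  obtain ⟨j', hj'⟩ := (yon S).map_surjective (sqY.lift ((yon S).map i' ≫ (yon S).map lX)
    ((yon S).map pZ ≫ (yon S).map j) (by rw [sqZ.w, Category.assoc]))
  have hj₁ : j' ≫ lY = i' ≫ lX := (yon S).map_injective (by
    rw [Functor.map_comp, Functor.map_comp, hj', sqY.lift_fst])
  have hj₂ : j' ≫ pY = pZ ≫ j := (yon S).map_injective (by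
    rw [Functor.map_comp, Functor.map_comp, hj', sqY.lift_snd])
  have hY0 : IsPullback pZ j' j pY := by
    refine (IsPullback.of_map (yon S) hj₂ ?_).flip
    rw [← Functor.map_comp, ← hj₁, Functor.map_comp] at sqZ
    exact IsPullback.of_right sqZ (by rw [← Functor.map_comp, hj₂, Functor.map_comp]) sqY
  have hX0 := hZ.map (Over.forget S)
  have hY1 := hY0.map (Over.forget S)
  simp only [Over.forget_map] at hX0 hY1
  haveI : IsClosedImmersion i'.left := MorphismProperty.of_isPullback hX0 ‹IsClosedImmersion i.left›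
  haveI : IsIntegralHom j'.left := MorphismProperty.of_isPullback hY1 ‹IsIntegralHom j.left›
  haveI : Etale pZ.left := MorphismProperty.of_isPullback hX0.flip hpXe
  haveI : IsSeparated pZ.left := MorphismProperty.of_isPullback hX0.flip ‹IsSeparated pX.left›
  haveI := locallyQuasiFinite_of_etale pX.left
  haveI := locallyQuasiFinite_of_etale pY.left
  haveI := locallyQuasiFinite_of_etale pZ.left
  have hn' : ∀ y : Y'.left, ∃ p : PushLib.Nice i'.left j'.left, y ∈ p.V := fun y => by
    obtain ⟨p, hp⟩ := hn (pY.left y)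
    obtain ⟨q, hq, -⟩ := PushFun.exists_nice_lift p hX0.w.symm hY1.w.symm y hp
    exact ⟨q, hq⟩
  obtain ⟨π, hπa, hπb, -, -, -, sqa, sqb⟩ := PushFun.exists_fun hX0 hY1 hn hn'
  haveI : Etale π := etale_fun hX0 hY1 hn hn' π hπa hπb
  let e := PushLib.Nice.iso hn hP
  let P' : Over S := Over.mk ((π ≫ e.hom) ≫ P.hom)
  let k : P' ⟶ P := Over.homMk (π ≫ e.hom) rfl
  have ea : (PushLib.Nice.a hn' ≫ π ≫ e.hom) = pX.left ≫ a.left := by
    rw [reassoc_of% hπa, PushLib.Nice.a_iso]
  have eb : (PushLib.Nice.b hn' ≫ π ≫ e.hom) = pY.left ≫ b.left := by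
    rw [reassoc_of% hπb, PushLib.Nice.b_iso]
  let a' : X' ⟶ P' := Over.homMk (PushLib.Nice.a hn') (by
    show PushLib.Nice.a hn' ≫ (π ≫ e.hom) ≫ P.hom = X'.hom
    rw [← Category.assoc (PushLib.Nice.a hn'), ea, Category.assoc, Over.w, Over.w])
  let b' : Y' ⟶ P' := Over.homMk (PushLib.Nice.b hn') (by
    show PushLib.Nice.b hn' ≫ (π ≫ e.hom) ≫ P.hom = Y'.hom
    rw [← Category.assoc (PushLib.Nice.b hn'), eb, Category.assoc, Over.w, Over.w])
  have hka : IsPullback pX a' a k := IsPullback.of_map (Over.forget S) (Over.OverMorphism.ext ea.symm)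
    (sqa.flip.of_iso (Iso.refl _) (Iso.refl _) (Iso.refl _) e (Category.comp_id _ |>.trans (Category.id_comp _).symm)
      (Category.comp_id _ |>.trans (Category.id_comp _).symm)
      ((PushLib.Nice.a_iso hn hP).trans (Category.id_comp _).symm) (Category.id_comp _).symm)
  have hkb : IsPullback pY b' b k := IsPullback.of_map (Over.forget S) (Over.OverMorphism.ext eb.symm)
    (sqb.flip.of_iso (Iso.refl _) (Iso.refl _) (Iso.refl _) e (Category.comp_id _ |>.trans (Category.id_comp _).symm)
      (Category.comp_id _ |>.trans (Category.id_comp _).symm)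
      ((PushLib.Nice.b_iso hn hP).trans (Category.id_comp _).symm) (Category.id_comp _).symm)
  haveI : Etale k.left := show Etale (π ≫ e.hom) from inferInstance
  haveI : Surjective k.left := ⟨fun p => by
    rcases exists_preimage hn hpo p with ⟨x, rfl⟩ | ⟨y, rfl⟩
    · obtain ⟨x', rfl⟩ := pX.left.surjective x
      exact ⟨a'.left x', by rw [← Scheme.Hom.comp_apply, ← Scheme.Hom.comp_apply, ← Over.comp_left,
        ← Over.comp_left, hka.w]⟩
    · obtain ⟨y', rfl⟩ := pY.left.surjective y
      exact ⟨b'.left y', by rw [← Scheme.Hom.comp_apply, ← Scheme.Hom.comp_apply, ← Over.comp_left,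
        ← Over.comp_left, hkb.w]⟩⟩
  have hw' : j' ≫ b' = i' ≫ a' := Over.OverMorphism.ext (PushLib.Nice.w hn').symm
  exact exists_desc hn hpo hF u v w k hka hkb hZ j' hj₂ hw' lX lY hj₁.symm sqX.w sqY.w

end Groth.Agent.SpPush
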