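import Groth.Agent.SpPushLib.Rel
import Groth.Agent.AlgSpLib.SheafDesc
import Groth.Agent.EtThickLib.Main

/-!
# Glued charts of pushouts along thickenings of algebraic spaces
-/

set_option autoImplicit false
set_option linter.all false
set_option backward.isDefEq.respectTransparency false
set_option backward.isDefEq.respectTransparency.types false
set_option maxHeartbeats 1000000

noncomputable section

universe u

open CategoryTheory CategoryTheory.Limits AlgebraicGeometry AlgSp AlgSpLib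

namespace Groth.Agent.SpPush

open Groth.Agent

variable {S : Scheme.{u}}

/-- Compatible etale charts of a square of spaces along a thickening, glueing to a chart of the corner. -/
structure GlueChart {G G' H H' : Sp S} (t : G ⟶ G') (f : G ⟶ H) (f' : G' ⟶ H') (t' : H ⟶ H') where
  WZ : Over S
  W : Over S
  V : Over S
  P : Over S
  x : (yon S).obj WZ ⟶ G
  w : (yon S).obj W ⟶ G'
  p : (yon S).obj V ⟶ H
  π : (yon S).obj P ⟶ H'
  i : WZ ⟶ W
  j : WZ ⟶ V
  a : W ⟶ P
  b : V ⟶ P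
  ci : IsClosedImmersion i.left
  si : Surjective i.left
  aff : IsAffineHom j.left
  hw : RepWith @Etale w
  hws : RepWith @Surjective w
  hp : RepWith @Etale p
  hps : RepWith @Surjective p
  hπ : RepWith @Etale π
  hπs : RepWith @Surjective π
  sqt : IsPullback x ((yon S).map i) t w
  sqf : IsPullback x ((yon S).map j) f p
  sqw : IsPullback w ((yon S).map a) f' π
  sqp : IsPullback p ((yon S).map b) t' π
  hpo : IsPushout i j a b

variable {G G' H : Sp S}

/-- A point of a leg over a point of the glued chart. -/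
theorem leg_isPullback {P L : Over S} {s t : L ⟶ P} (D : Leg s t) (heq : IsEtaleEqvRel s t)
    (hw : RepWith @Etale D.w) (hws : RepWith @Surjective D.w)
    {f' : D.G ⟶ QuotSh.quot Scheme.fppfPrecoverage s t}
    (hf' : D.w ≫ f' = (yon S).map D.a ≫ qπ s t) :
    IsPullback D.w ((yon S).map D.a) f' (qπ s t) := by
  have hpr := isPresentation_qπ s t heq
  have uniq : ∀ {T : Over S} (z z' : T ⟶ D.W), z ≫ D.a = z' ≫ D.a →
      (yon S).map z ≫ D.w = (yon S).map z' ≫ D.w → z = z' := by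
    intro T z z' ha hz
    obtain ⟨ρ, hρ⟩ := (yon S).map_surjective (D.sq.lift _ _ hz)
    obtain ⟨δ, hδ⟩ := (yon S).map_surjective (D.sq.lift ((yon S).map z) ((yon S).map z) rfl)
    have e₁ : ρ ≫ D.r₁ = z := (yon S).map_injective (by rw [Functor.map_comp, hρ, D.sq.lift_fst])
    have e₂ : ρ ≫ D.r₂ = z' := (yon S).map_injective (by rw [Functor.map_comp, hρ, D.sq.lift_snd])
    have d₁ : δ ≫ D.r₁ = z := (yon S).map_injective (by rw [Functor.map_comp, hδ, D.sq.lift_fst])
    have d₂ : δ ≫ D.r₂ = z := (yon S).map_injective (by rw [Functor.map_comp, hδ, D.sq.lift_snd])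
    have : ρ = δ := D.hs.hom_ext (e₁.trans d₁.symm) (heq.injective T _ _
      (by simp only [Category.assoc, ← D.ht.w, reassoc_of% e₂, reassoc_of% d₂, ha])
      (by simp only [Category.assoc, ← D.hs.w, reassoc_of% e₁, reassoc_of% d₁]))
    rw [← e₂, this, d₂]
  refine isPullback_of_forall_existsUnique hf' fun T ξ η h => ?_
  obtain ⟨T₁, v, c, sqc⟩ := exists_isPullback_yon D.w ξ hw.rep
  obtain ⟨y, rfl⟩ := (yon S).map_surjective η
  have hce : RepWith @Etale ((yon S).map c) := repWith_of_isPullback sqc hw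
  have hcs : RepWith @Surjective ((yon S).map c) := repWith_of_isPullback sqc hws
  obtain ⟨r, hr⟩ := (yon S).map_surjective (hpr.isPullback.lift ((yon S).map (c ≫ y)) ((yon S).map (v ≫ D.a)) (by
    rw [Functor.map_comp, Functor.map_comp, Category.assoc, Category.assoc, ← hf', ← h, reassoc_of% sqc.w]))
  have r₁ : r ≫ t = c ≫ y := (yon S).map_injective (by rw [Functor.map_comp, hr, hpr.isPullback.lift_fst])
  have r₂ : r ≫ s = v ≫ D.a := (yon S).map_injective (by rw [Functor.map_comp, hr, hpr.isPullback.lift_snd])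
  obtain ⟨z, hz₁, hz₂⟩ : ∃ z : T₁ ⟶ D.W, z ≫ D.a = c ≫ y ∧ (yon S).map z ≫ D.w = (yon S).map c ≫ ξ :=
    ⟨D.hs.lift v r r₂.symm ≫ D.r₂, by rw [Category.assoc, D.ht.w, D.hs.lift_snd_assoc, r₁], by
      rw [← sqc.w, Functor.map_comp, Category.assoc, ← D.sq.w, ← (yon S).map_comp_assoc, D.hs.lift_fst]⟩
  obtain ⟨l, hl⟩ := exists_desc_of_atlas hce hcs ((yon S).map z) fun Z g g' e => by
    have e' : g ≫ c = g' ≫ c := (yon S).map_injective (by rw [Functor.map_comp, Functor.map_comp, e])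
    rw [← Functor.map_comp, ← Functor.map_comp]
    refine congrArg _ (uniq _ _ (by rw [Category.assoc, Category.assoc, hz₁, reassoc_of% e']) ?_)
    rw [Functor.map_comp, Functor.map_comp, Category.assoc, Category.assoc, hz₂, reassoc_of% e]
  refine ⟨l, ⟨hom_ext_of_atlas hce hcs ?_, hom_ext_of_atlas hce hcs ?_⟩, fun l' ⟨h₁, h₂⟩ => ?_⟩
  · rw [← Category.assoc, hl, hz₂]
  · rw [← Category.assoc, hl, ← Functor.map_comp, ← Functor.map_comp, hz₁]
  · obtain ⟨l₀, rfl⟩ := (yon S).map_surjective l'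
    refine hom_ext_of_atlas hce hcs ?_
    rw [hl, ← Functor.map_comp]
    refine congrArg _ (uniq _ _ ?_ ?_)
    · rw [hz₁, Category.assoc]
      exact congrArg (c ≫ ·) ((yon S).map_injective (by rw [Functor.map_comp, h₂]))
    · rw [hz₂, Functor.map_comp, Category.assoc, h₁]

/-- Being a thickening descends along etale covers. -/
theorem thick_of_cover {F G H K : Sp S} {f : F ⟶ G} {a : H ⟶ G} {fst : K ⟶ F} {snd : K ⟶ H}
    (ha : RepWith @Etale a) (has : RepWith @Surjective a) (sq : IsPullback fst snd f a)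
    (h₁ : RepWith @IsClosedImmersion snd) (h₂ : RepWith @Surjective snd) : IsThickMor f := by
  haveI := isLocallySurjective_of_repWith (repWith_mono (fun _ _ g (hg : Etale g) => inferInstanceAs (Flat g)) ha)
    (repWith_mono (fun _ _ g (hg : Etale g) => inferInstanceAs (LocallyOfFinitePresentation g)) ha) has
  have hrep : Representable f := representable_of_cover isEffClass_isAffineHom sq
    (repWith_mono (fun _ _ g (hg : IsClosedImmersion g) => inferInstanceAs (IsAffineHom g)) h₁)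
  exact ⟨hrep, fun T W g fst' snd' sq' => ⟨(repWith_of_cover sq hrep h₁).2 g fst' snd' sq',
    (repWith_of_cover sq hrep h₂).2 g fst' snd' sq'⟩⟩

/-- The glued space: a glue chart, with the universal property. -/
theorem exists_glueChart (hG : IsAlgSpace G) (hG' : IsAlgSpace G') (hH : IsAlgSpace H) {t : G ⟶ G'}
    (ht : IsThickMor t) {f : G ⟶ H} (hf : RepWith @IsAffineHom f) :
    ∃ (H' : Sp S) (f' : G' ⟶ H') (t' : H ⟶ H'), IsAlgSpace H' ∧ IsThickMor t' ∧ t ≫ f' = f ≫ t' ∧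
      Nonempty (GlueChart t f f' t') ∧
      ∀ (F : Space S) (u : G' ⟶ F.obj) (v : H ⟶ F.obj), t ≫ u = f ≫ v →
        ∃! m : H' ⟶ F.obj, f' ≫ m = u ∧ t' ≫ m = v := by
  obtain ⟨V, p, hp, hps⟩ := hH.atlas
  obtain ⟨WZ, x, j, sqf⟩ : ∃ (WZ : Over S) (x : (yon S).obj WZ ⟶ G) (j : WZ ⟶ V),
      IsPullback x ((yon S).map j) f p := ⟨_, _, _, hf.rep.isPullback p⟩
  haveI haff : IsAffineHom j.left := (repWith_yon_map_iff (P := (@IsAffineHom : MorphismProperty Scheme.{u})) j).1
    (repWith_of_isPullback sqf hf)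
  have hx : RepWith @Etale x := repWith_of_isPullback sqf.flip hp
  have hxs : RepWith @Surjective x := repWith_of_isPullback sqf.flip hps
  obtain ⟨W, w, i, hw, sqt⟩ := EtThickLib.exists_lift hG' ht x hx
  obtain ⟨hci, hsi⟩ := (isThickMor_yon_map_iff i).1 (repWith_of_isPullback sqt ht)
  haveI := hci
  haveI := hsi
  have hws : RepWith @Surjective w := (repWith_surjective_iff hw.rep).2 fun ξ => by
    obtain ⟨η, rfl⟩ := map_surjective_of_repWith (repWith_mono inf_le_right ht) ξ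
    obtain ⟨ζ, rfl⟩ := map_surjective_of_repWith hxs η
    exact ⟨Points.map ((yon S).map i) ζ, by rw [← Points.map_comp, ← sqt.w, Points.map_comp]⟩
  -- kernel pairs
  obtain ⟨R, r₁, r₂, sqR⟩ := exists_isPullback_yon p p hp.rep
  obtain ⟨R', u₁, u₂, sqR'⟩ := exists_isPullback_yon w w hw.rep
  obtain ⟨RZ, v₁, v₂, sqRZ⟩ := exists_isPullback_yon x x hx.rep
  obtain ⟨jR, hjR⟩ := (yon S).map_surjective (sqR.lift ((yon S).map (v₁ ≫ j)) ((yon S).map (v₂ ≫ j)) (by
    rw [Functor.map_comp, Functor.map_comp, Category.assoc, Category.assoc, ← sqf.w, reassoc_of% sqRZ.w]))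
  obtain ⟨iR, hiR⟩ := (yon S).map_surjective (sqR'.lift ((yon S).map (v₁ ≫ i)) ((yon S).map (v₂ ≫ i)) (by
    rw [Functor.map_comp, Functor.map_comp, Category.assoc, Category.assoc, ← sqt.w, reassoc_of% sqRZ.w]))
  have hj₁ : jR ≫ r₁ = v₁ ≫ j := (yon S).map_injective (by rw [Functor.map_comp, hjR, sqR.lift_fst])
  have hj₂ : jR ≫ r₂ = v₂ ≫ j := (yon S).map_injective (by rw [Functor.map_comp, hjR, sqR.lift_snd])
  have hi₁ : iR ≫ u₁ = v₁ ≫ i := (yon S).map_injective (by rw [Functor.map_comp, hiR, sqR'.lift_fst])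
  have hi₂ : iR ≫ u₂ = v₂ ≫ i := (yon S).map_injective (by rw [Functor.map_comp, hiR, sqR'.lift_snd])
  haveI : Etale r₁.left := etale_left (repWith_of_isPullback sqR.flip hp)
  haveI : Etale r₂.left := etale_left (repWith_of_isPullback sqR hp)
  haveI : Etale u₁.left := etale_left (repWith_of_isPullback sqR'.flip hw)
  haveI : Etale u₂.left := etale_left (repWith_of_isPullback sqR' hw)
  have hX₁ := isPullback_kernelPair sqt sqRZ sqR' iR hi₁ hi₂
  have hX₂ := isPullback_kernelPair sqt sqRZ.flip sqR'.flip iR hi₂ hi₁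
  have hY₁ := isPullback_kernelPair sqf sqRZ sqR jR hj₁ hj₂
  have hY₂ := isPullback_kernelPair sqf sqRZ.flip sqR.flip jR hj₂ hj₁
  -- the glued chart and relation
  obtain ⟨P, a, b, hpo⟩ := exists_pushout i j
  obtain ⟨L, s, a', b', hs, sa, sb, hL⟩ := exists_glue hpo hX₁ hY₁
  obtain ⟨L₂, t₀, a₂, b₂, ht₀, ta, tb, hL₂⟩ := exists_glue hpo hX₂ hY₂
  let e := hL.isoIsPushout _ _ hL₂
  have ea : a' ≫ e.hom = a₂ := hL.inl_isoIsPushout_hom _ _ hL₂
  have eb : b' ≫ e.hom = b₂ := hL.inr_isoIsPushout_hom _ _ hL₂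
  let τ : L ⟶ P := e.hom ≫ t₀
  haveI := hs
  haveI := ht₀
  haveI : IsIso e.hom.left := inferInstanceAs (IsIso ((Over.forget S).map e.hom))
  haveI : Etale τ.left := show Etale (e.hom.left ≫ t₀.left) from inferInstance
  have ta' : IsPullback u₂ a' a τ := ta.of_iso (Iso.refl _) (Iso.refl _) e.symm (Iso.refl _) (by simp)
    (by rw [Iso.refl_hom, Category.id_comp, ← ea]; simp) (by simp) (by simp [τ])
  have tb' : IsPullback r₂ b' b τ := tb.of_iso (Iso.refl _) (Iso.refl _) e.symm (Iso.refl _) (by simp)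
    (by rw [Iso.refl_hom, Category.id_comp, ← eb]; simp) (by simp) (by simp [τ])
  let A : Leg s τ := { G := G', W := W, R := R', w := w, r₁ := u₁, r₂ := u₂, a := a, a' := a', sq := sqR', hs := sa, ht := ta' }
  let B : Leg s τ := { G := H, W := V, R := R, w := p, r₁ := r₁, r₂ := r₂, a := b, a' := b', sq := sqR, hs := sb, ht := tb' }
  have heq : IsEtaleEqvRel s τ := isEtaleEqvRel_of_legs A B (i := i) (j := j) hpo (i' := iR) (j' := jR) hL
  have hH' := isAlgSpace_quot s τ heq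
  have hpr := isPresentation_qπ s τ heq
  have hdesc : ∀ (D : Leg s τ) (hw : RepWith @Etale D.w) (hws : RepWith @Surjective D.w),
      ∃ f' : D.G ⟶ QuotSh.quot Scheme.fppfPrecoverage s τ, D.w ≫ f' = (yon S).map D.a ≫ qπ s τ := by
    intro D hw hws
    refine exists_desc_of_atlas hw hws _ fun Z g g' h => ?_
    obtain ⟨ρ, hρ⟩ := (yon S).map_surjective (D.sq.lift _ _ h)
    have e₁ : g = ρ ≫ D.r₁ := (yon S).map_injective (by rw [Functor.map_comp, hρ, D.sq.lift_fst])
    have e₂ : g' = ρ ≫ D.r₂ := (yon S).map_injective (by rw [Functor.map_comp, hρ, D.sq.lift_snd])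
    rw [← (yon S).map_comp_assoc g, ← (yon S).map_comp_assoc g', e₁, e₂, Category.assoc, Category.assoc, D.hs.w,
      D.ht.w]
    simp only [Functor.map_comp, Category.assoc, hpr.isPullback.w]
  obtain ⟨f', hf'⟩ := hdesc A hw hws
  obtain ⟨t', ht'⟩ := hdesc B hp hps
  have sqw := leg_isPullback A heq hw hws hf'
  have sqp := leg_isPullback B heq hp hps ht'
  obtain ⟨_, _⟩ := thick_inr hpo
  have htt : IsThickMor t' := thick_of_cover hpr.etale hpr.surjective sqp
    ((repWith_yon_map_iff (P := (@IsClosedImmersion : MorphismProperty Scheme.{u})) b).2 inferInstance)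
    ((repWith_yon_map_iff (P := (@Surjective : MorphismProperty Scheme.{u})) b).2 inferInstance)
  have hcomm : t ≫ f' = f ≫ t' := hom_ext_of_atlas hx hxs (by
    rw [reassoc_of% sqt.w, hf', reassoc_of% sqf.w, ht', ← (yon S).map_comp_assoc i a,
      ← (yon S).map_comp_assoc j b, hpo.w])
  refine ⟨_, f', t', hH', htt, hcomm, ⟨⟨WZ, W, V, P, x, w, p, qπ s τ, i, j, a, b, hci, hsi, haff, hw, hws, hp, hps,
    hpr.etale, hpr.surjective, sqt, sqf, sqw, sqp, hpo⟩⟩,
    fun F u v huv => ?_⟩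
  have hxz : (yon S).map i ≫ w ≫ u = (yon S).map j ≫ p ≫ v := by
    rw [← reassoc_of% sqt.w, ← reassoc_of% sqf.w, huv]
  let hps₀ := isPushout_of_thickening hpo
  let m₀ : (yon S).obj P ⟶ F.obj := (hps₀.desc (ObjectProperty.homMk (w ≫ u) : (ofScheme S).obj W ⟶ F)
    (ObjectProperty.homMk (p ≫ v)) (ObjectProperty.hom_ext _ hxz)).hom
  have hm₁ : (yon S).map a ≫ m₀ = w ≫ u := congrArg (fun k : (ofScheme S).obj W ⟶ F => k.hom) (hps₀.inl_desc _ _ _)
  have hm₂ : (yon S).map b ≫ m₀ = p ≫ v := congrArg (fun k : (ofScheme S).obj V ⟶ F => k.hom) (hps₀.inr_desc _ _ _)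
  have agree : (yon S).map s ≫ m₀ = (yon S).map τ ≫ m₀ := by
    refine eq_of_pushout hL F.property ?_ ?_
    · rw [← (yon S).map_comp_assoc, ← (yon S).map_comp_assoc, ← sa.w, ← ta'.w, (yon S).map_comp_assoc,
        (yon S).map_comp_assoc, hm₁, reassoc_of% sqR'.w]
    · rw [← (yon S).map_comp_assoc, ← (yon S).map_comp_assoc, ← sb.w, ← tb'.w, (yon S).map_comp_assoc,
        (yon S).map_comp_assoc, hm₂, reassoc_of% sqR.w]
  obtain ⟨m, hm⟩ := exists_desc_of_atlas hpr.etale hpr.surjective m₀ fun Z g g' h => by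
    obtain ⟨r, hr⟩ := (yon S).map_surjective (hpr.isPullback.lift _ _ h)
    have r₁ : (yon S).map r ≫ (yon S).map τ = (yon S).map g := by rw [hr, hpr.isPullback.lift_fst]
    have r₂ : (yon S).map r ≫ (yon S).map s = (yon S).map g' := by rw [hr, hpr.isPullback.lift_snd]
    rw [← r₁, ← r₂, Category.assoc, Category.assoc, agree]
  refine ⟨m, ⟨hom_ext_of_atlas hw hws ?_, hom_ext_of_atlas hp hps ?_⟩, fun m' hm' => ?_⟩
  · rw [reassoc_of% hf', hm, hm₁]
  · rw [reassoc_of% ht', hm, hm₂]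
  · obtain ⟨h₁, h₂⟩ := hm'
    refine hom_ext_of_atlas hpr.etale hpr.surjective (eq_of_pushout hpo F.property ?_ ?_)
    · rw [← reassoc_of% hf', h₁, hm, hm₁]
    · rw [← reassoc_of% ht', h₂, hm, hm₂]

/-- Every pushout along a thickening and an affine morphism has a glue chart. -/
theorem exists_glueChart_of_isPushout {X X' Y Y' : Space S} {t : X ⟶ X'} (ht : IsThickMor t.hom) {f : X ⟶ Y}
    (hf : IsAffineMor f.hom) {f' : X' ⟶ Y'} {t' : Y ⟶ Y'} (hY' : IsPushout t f f' t') :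
    IsThickMor t'.hom ∧ Nonempty (GlueChart t.hom f.hom f'.hom t'.hom) := by
  obtain ⟨H', f₀, t₀, hH', htt, hc, ⟨D⟩, huniv⟩ :=
    exists_glueChart X.property X'.property Y.property ht (isAffineMor_iff.1 hf)
  let E : Space S := ⟨H', hH'⟩
  let m : Y' ⟶ E := hY'.desc (ObjectProperty.homMk f₀) (ObjectProperty.homMk t₀) (ObjectProperty.hom_ext _ hc)
  have m₁ : f'.hom ≫ m.hom = f₀ := congrArg (fun k : X' ⟶ E => k.hom) (hY'.inl_desc _ _ _)
  have m₂ : t'.hom ≫ m.hom = t₀ := congrArg (fun k : Y ⟶ E => k.hom) (hY'.inr_desc _ _ _)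
  obtain ⟨n, ⟨n₁, n₂⟩, -⟩ := huniv Y' f'.hom t'.hom (congrArg (fun k => k.hom) hY'.w)
  have e₁ : m.hom ≫ n = 𝟙 _ := congrArg (fun k : Y' ⟶ Y' => k.hom) (hY'.hom_ext
    (k := m ≫ (ObjectProperty.homMk n : E ⟶ Y')) (l := 𝟙 _)
    (ObjectProperty.hom_ext _ (show f'.hom ≫ m.hom ≫ n = f'.hom ≫ 𝟙 _ by rw [reassoc_of% m₁, n₁, Category.comp_id]))
    (ObjectProperty.hom_ext _ (show t'.hom ≫ m.hom ≫ n = t'.hom ≫ 𝟙 _ by rw [reassoc_of% m₂, n₂, Category.comp_id])))
  have e₂ : n ≫ m.hom = 𝟙 _ := by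
    obtain ⟨k, -, huq⟩ := huniv E f₀ t₀ hc
    exact (huq (n ≫ m.hom) ⟨by rw [reassoc_of% n₁, m₁], by rw [reassoc_of% n₂, m₂]⟩).trans
      (huq _ ⟨Category.comp_id _, Category.comp_id _⟩).symm
  let ν : H' ≅ Y'.obj := { hom := n, inv := m.hom, hom_inv_id := e₂, inv_hom_id := e₁ }
  haveI : IsIso n := ⟨⟨m.hom, e₂, e₁⟩⟩
  refine ⟨?_, ⟨{ D with π := D.π ≫ n, hπ := ?_, hπs := ?_, sqw := ?_, sqp := ?_ }⟩⟩
  · haveI : (RepWith thick : MorphismProperty (Sp S)).RespectsIso :=
      MorphismProperty.IsStableUnderBaseChange.respectsIso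
    rw [← n₂]
    exact ((RepWith thick : MorphismProperty (Sp S)).cancel_right_of_respectsIso t₀ n).2 htt
  · exact repWith_comp D.hπ (repWith_of_isIso n)
  · exact repWith_comp D.hπs (repWith_of_isIso n)
  · exact D.sqw.of_iso (Iso.refl _) (Iso.refl _) (Iso.refl _) ν (by simp) (by simp) (by simp [ν, n₁])
      (by simp [ν])
  · exact D.sqp.of_iso (Iso.refl _) (Iso.refl _) (Iso.refl _) ν (by simp) (by simp) (by simp [ν, n₂])
      (by simp [ν])

end Groth.Agent.SpPush
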