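import Groth.Agent.SpPushLib.Props

/-!
# Cartesian squares between Ferrand pushouts
-/

set_option autoImplicit false
set_option linter.all false
set_option maxHeartbeats 800000

universe u

open CategoryTheory CategoryTheory.Limits AlgebraicGeometry

namespace Groth.Agent.SpPush

open Groth.Agent.PushLib

variable {X Y Z X' Y' Z' : Scheme.{u}} {i : Z ⟶ X} {j : Z ⟶ Y} {i' : Z' ⟶ X'} {j' : Z' ⟶ Y'}
  [IsClosedImmersion i] [IsClosedImmersion i'] {f : X' ⟶ X} {g : Y' ⟶ Y} {h : Z' ⟶ Z}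

theorem cart_chart (hX : IsPullback h i' i f) (hY0 : IsPullback h j' j g)
    (hY : ∀ y : Y, ∃ p : Nice i j, y ∈ p.V) (hY' : ∀ y : Y', ∃ p : Nice i' j', y ∈ p.V)
    (π : Nice.P i' j' ⟶ Nice.P i j) (hπa : Nice.a hY' ≫ π = f ≫ Nice.a hY) (hπb : Nice.b hY' ≫ π = g ≫ Nice.b hY)
    (p : Nice i j) (q : Nice i' j') (hU : q.U ≤ f ⁻¹ᵁ p.U) (hV : q.V ≤ g ⁻¹ᵁ p.V) :
    ∃ φ : p.ring →+* q.ring, q.ι ≫ π = specMap φ ≫ p.ι ∧
      IsPullback (specMap q.sq.v) (Spec.map (f.appLE p.U q.U hU)) (specMap φ) (specMap p.sq.v) ∧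
      IsPullback (specMap q.sq.u) (Spec.map (g.appLE p.V q.V hV)) (specMap φ) (specMap p.sq.u) := by
  let gU := f.appLE p.U q.U hU
  let gV := g.appLE p.V q.V hV
  have hZle : i' ⁻¹ᵁ q.U ≤ h ⁻¹ᵁ (i ⁻¹ᵁ p.U) := by
    rw [← Scheme.Hom.comp_preimage, hX.w, Scheme.Hom.comp_preimage]
    exact i'.preimage_mono hU
  let gZ := h.appLE (i ⁻¹ᵁ p.U) (i' ⁻¹ᵁ q.U) hZle
  have eq1 : gV ≫ q.q = p.q ≫ gZ := by
    simp only [gV, gZ, Nice.q, Scheme.Hom.appLE_comp_appLE, hY0.w]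
  have eq2 : gU ≫ q.p' = p.p' ≫ gZ := by
    simp only [gU, gZ, Nice.p', Scheme.Hom.app_eq_appLE, Scheme.Hom.appLE_comp_appLE, hX.w]
  let φ : p.ring →+* q.ring :=
    ((gV.hom.comp p.sq.u).prod (gU.hom.comp p.sq.v)).codRestrict _ fun x => by
      show q.q.hom (gV.hom (p.sq.u x)) = q.p'.hom (gU.hom (p.sq.v x))
      rw [← CommRingCat.comp_apply, ← CommRingCat.comp_apply, eq1, eq2, CommRingCat.comp_apply,
        CommRingCat.comp_apply]
      exact congrArg gZ.hom (p.sq.w x)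
  have hπ : q.ι ≫ π = specMap φ ≫ p.ι := by
    refine q.sq.hom_ext ?_ ?_
    · rw [← Category.assoc, ← Category.assoc, ← Nice.fromSpec_b hY' q, Category.assoc, hπb, ← Category.assoc,
        ← IsAffineOpen.SpecMap_appLE_fromSpec g p.hV q.hV hV, Category.assoc, Nice.fromSpec_b hY p,
        ← Category.assoc, ← Spec.map_comp, ← Spec.map_comp]
      rfl
    · rw [← Category.assoc, ← Category.assoc, ← Nice.fromSpec_a hY' q, Category.assoc, hπa, ← Category.assoc,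
        ← IsAffineOpen.SpecMap_appLE_fromSpec f p.hU q.hU hU, Category.assoc, Nice.fromSpec_a hY p,
        ← Category.assoc, ← Spec.map_comp, ← Spec.map_comp]
      rfl
  have pC : IsPushout gU p.p' q.p' gZ := by
    have := PushFun.isPushout_appLE hX.flip p.hU q.hU hU (p.hU.preimage i) rfl (q.hU.preimage i') rfl hZle
    simpa only [Nice.p', Scheme.Hom.app_eq_appLE] using this
  have pD : IsPushout gV p.q q.q gZ :=
    PushFun.isPushout_appLE hY0.flip p.hV q.hV hV (p.hU.preimage i) p.heq (q.hU.preimage i') q.heq hZle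
  have hq' : q.sq.q.comp gV.hom = gZ.hom.comp p.sq.q := congrArg CommRingCat.Hom.hom eq1
  have hp' : q.sq.p.comp gU.hom = gZ.hom.comp p.sq.p := congrArg CommRingCat.Hom.hom eq2
  have ha := PushFun.isPushout_v (S := p.sq) (T := q.sq) (φ := φ) (φB := gV.hom) (φA' := gU.hom) (φA := gZ.hom)
    rfl rfl hq' hp' pC pD
  have hb := PushFun.isPushout_u (S := p.sq) (T := q.sq) (φ := φ) (φB := gV.hom) (φA' := gU.hom) (φA := gZ.hom)
    rfl rfl hq' hp' pC pD
  exact ⟨φ, hπ, isPullback_SpecMap_of_isPushout _ _ _ _ ha, isPullback_SpecMap_of_isPushout _ _ _ _ hb⟩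

/-- A map of Ferrand pushouts over cartesian data is cartesian on both legs. -/
theorem cart_fun (hX : IsPullback h i' i f) (hY0 : IsPullback h j' j g)
    (hY : ∀ y : Y, ∃ p : Nice i j, y ∈ p.V) (hY' : ∀ y : Y', ∃ p : Nice i' j', y ∈ p.V)
    (π : Nice.P i' j' ⟶ Nice.P i j) (hπa : Nice.a hY' ≫ π = f ≫ Nice.a hY) (hπb : Nice.b hY' ≫ π = g ≫ Nice.b hY) :
    IsPullback (Nice.a hY') f π (Nice.a hY) ∧ IsPullback (Nice.b hY') g π (Nice.b hY) := by
  let ι := {pq : Nice i j × Nice i' j' // pq.2.U ≤ f ⁻¹ᵁ pq.1.U ∧ pq.2.V ≤ g ⁻¹ᵁ pq.1.V}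
  choose φ hφ hsa hsb using fun k : ι => cart_chart hX hY0 hY hY' π hπa hπb k.1.1 k.1.2 k.2.1 k.2.2
  have hcov : ∀ w : Nice.P i' j', ∃ k : ι, w ∈ Set.range k.1.2.ι := fun w => by
    obtain ⟨p, r, hU, hV, hw⟩ := exists_charts hX hY0 hY hY' π hπa hπb w
    exact ⟨⟨(p, r), hU, hV⟩, hw⟩
  choose kw hkw using hcov
  -- cartesian squares
  have hgen : ∀ {X₀ U₀ : Scheme.{u}} (a₀ : X₀ ⟶ Nice.P i j) (a₀' : U₀ ⟶ Nice.P i' j') (e : U₀ ⟶ X₀)
      (W : Nice i j → Scheme.{u}) (W' : Nice i' j' → Scheme.{u}) (κ : ∀ p, W p ⟶ X₀) (κ' : ∀ q, W' q ⟶ U₀)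
      (s : ∀ p, W p ⟶ Spec (.of p.ring)) (s' : ∀ q, W' q ⟶ Spec (.of q.ring)) (e' : ∀ k : ι, W' k.1.2 ⟶ W k.1.1)
      (_ : a₀' ≫ π = e ≫ a₀) (_ : ∀ p, IsPullback (s p) (κ p) p.ι a₀)
      (_ : ∀ q, IsPullback (s' q) (κ' q) q.ι a₀') (_ : ∀ k, e' k ≫ κ k.1.1 = κ' k.1.2 ≫ e)
      (_ : ∀ k, IsPullback (s' k.1.2) (e' k) (specMap (φ k)) (s k.1.1)),
      IsPullback a₀' e π a₀ := by
    intro X₀ U₀ a₀ a₀' e W W' κ κ' s s' e' hw h1 h1' he h2
    let c : U₀ ⟶ pullback π a₀ := pullback.lift a₀' e hw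
    have hout : ∀ k : ι, IsPullback (s' k.1.2) (κ' k.1.2 ≫ e) (k.1.2.ι ≫ π) a₀ := fun k => by
      rw [hφ, ← he]
      exact (h2 k).paste_vert (h1 k.1.1)
    have htop : ∀ k : ι, IsPullback (s' k.1.2) (κ' k.1.2 ≫ c) k.1.2.ι (pullback.fst π a₀) := fun k => by
      refine IsPullback.of_bot ?_ ?_ (IsPullback.of_hasPullback π a₀)
      · rw [Category.assoc, pullback.lift_snd]; exact hout k
      · rw [Category.assoc, pullback.lift_fst]; exact (h1' k.1.2).w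
    haveI : ∀ k : ι, IsOpenImmersion (κ' k.1.2 ≫ c) := fun k =>
      MorphismProperty.of_isPullback (htop k) inferInstance
    have hcov' : ∀ z, ∃ k : ι, z ∈ Set.range (κ' k.1.2 ≫ c) := fun z => by
      obtain ⟨t, ht⟩ := hkw (pullback.fst π a₀ z)
      obtain ⟨o, ho⟩ := Scheme.exists_preimage_of_isPullback (htop (kw (pullback.fst π a₀ z))) t z ht
      exact ⟨_, o, ho.2⟩
    choose kz hkz using hcov'
    let 𝒱 : (pullback π a₀).OpenCover := Scheme.Cover.mkOfCovers _ (fun z => W' (kz z).1.2)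
      (fun z => κ' (kz z).1.2 ≫ c) (fun z => ⟨z, hkz z⟩) (fun z => inferInstance)
    have hc : (MorphismProperty.isomorphisms Scheme.{u}) c := by
      refine IsZariskiLocalAtTarget.of_openCover 𝒱 fun z => ?_
      have hR : IsPullback (κ' (kz z).1.2) (𝟙 _) c (κ' (kz z).1.2 ≫ c) := by
        have ho : IsPullback (κ' (kz z).1.2) (s' (kz z).1.2) (c ≫ pullback.fst π a₀) (kz z).1.2.ι := by
          rw [pullback.lift_fst]
          exact (h1' (kz z).1.2).flip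
        refine IsPullback.of_bot ?_ (by rw [Category.id_comp]) (htop (kz z)).flip
        rw [Category.id_comp]
        exact ho
      show (MorphismProperty.isomorphisms Scheme.{u}) (pullback.snd c (κ' (kz z).1.2 ≫ c))
      refine (MorphismProperty.cancel_left_of_respectsIso (MorphismProperty.isomorphisms Scheme.{u}) hR.isoPullback.hom _).1 ?_
      rw [hR.isoPullback_hom_snd]
      exact MorphismProperty.isomorphisms.infer_property _
    haveI : IsIso c := hc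
    exact IsPullback.of_iso_pullback ⟨hw⟩ (asIso c) (pullback.lift_fst _ _ _) (pullback.lift_snd _ _ _)
  exact ⟨hgen (Nice.a hY) (Nice.a hY') f _ _ (fun p => p.hU.fromSpec) (fun q => q.hU.fromSpec) _ _
      (fun k => Spec.map (f.appLE k.1.1.U k.1.2.U k.2.1)) hπa (Nice.isPullback_a hY)
      (fun q => Nice.isPullback_a hY' q) (fun k => IsAffineOpen.SpecMap_appLE_fromSpec f k.1.1.hU k.1.2.hU k.2.1) hsa,
    hgen (Nice.b hY) (Nice.b hY') g _ _ (fun p => p.hV.fromSpec) (fun q => q.hV.fromSpec) _ _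
      (fun k => Spec.map (g.appLE k.1.1.V k.1.2.V k.2.2)) hπb (Nice.isPullback_b hY)
      (fun q => Nice.isPullback_b hY' q) (fun k => IsAffineOpen.SpecMap_appLE_fromSpec g k.1.1.hV k.1.2.hV k.2.2) hsb⟩

/-- Cartesian squares for arbitrary pushouts. -/
theorem cart_pushout (hX : IsPullback h i' i f) (hY0 : IsPullback h j' j g)
    (hY : ∀ y : Y, ∃ p : Nice i j, y ∈ p.V) (hY' : ∀ y : Y', ∃ p : Nice i' j', y ∈ p.V)
    {P P' : Scheme.{u}} {a : X ⟶ P} {b : Y ⟶ P} (hP : IsPushout i j a b) {a' : X' ⟶ P'} {b' : Y' ⟶ P'}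
    (hP' : IsPushout i' j' a' b') (k : P' ⟶ P) (ha : a' ≫ k = f ≫ a) (hb : b' ≫ k = g ≫ b) :
    IsPullback a' f k a ∧ IsPullback b' g k b := by
  let e := Nice.iso hY hP
  let e' := Nice.iso hY' hP'
  let π := e'.hom ≫ k ≫ e.inv
  have hπa : Nice.a hY' ≫ π = f ≫ Nice.a hY := by
    simp only [π, e']
    rw [reassoc_of% (Nice.a_iso hY' hP'), reassoc_of% ha, ← Nice.a_iso hY hP, Category.assoc, Iso.hom_inv_id,
      Category.comp_id]
  have hπb : Nice.b hY' ≫ π = g ≫ Nice.b hY := by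
    simp only [π, e']
    rw [reassoc_of% (Nice.b_iso hY' hP'), reassoc_of% hb, ← Nice.b_iso hY hP, Category.assoc, Iso.hom_inv_id,
      Category.comp_id]
  obtain ⟨h1, h2⟩ := cart_fun hX hY0 hY hY' π hπa hπb
  exact ⟨h1.of_iso (Iso.refl _) e' (Iso.refl _) e (by simp [e', Nice.a_iso]) (by simp) (by simp [π])
      (by simp [e, Nice.a_iso]),
    h2.of_iso (Iso.refl _) e' (Iso.refl _) e (by simp [e', Nice.b_iso]) (by simp) (by simp [π])
      (by simp [e, Nice.b_iso])⟩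

end Groth.Agent.SpPush
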