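import Groth.Agent.SpPushLib.Glue
import Groth.Agent.SpPushLib.Cart
import Groth.Agent.AlgSpLib.LocP

/-!
# Maps between pushouts along thickenings of algebraic spaces
-/

set_option autoImplicit false
set_option linter.all false
set_option backward.isDefEq.respectTransparency false
set_option backward.isDefEq.respectTransparency.types false
set_option maxHeartbeats 1000000

noncomputable section

universe u

open CategoryTheory CategoryTheory.Limits AlgebraicGeometry AlgSp AlgSpLib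

namespace Groth.Agent.SpPush

open Groth.Agent

variable {S : Scheme.{u}}

/-- A square which is cartesian on a chart of the corner is cartesian. -/
theorem cart_of_chart {V V' Y Y' : Sp S} {iV : V ⟶ V'} {v : V ⟶ Y} {v' : V' ⟶ Y'} {t' : Y ⟶ Y'}
    (w : iV ≫ v' = v ≫ t') {Q QV P0 V0 : Over S} {κ : (yon S).obj Q ⟶ V'} (hκ : RepWith @Etale κ)
    (hκs : RepWith @Surjective κ) {π : (yon S).obj P0 ⟶ Y'} {p : (yon S).obj V0 ⟶ Y} {b : V0 ⟶ P0}
    (sqp : IsPullback p ((yon S).map b) t' π) {ρ : Q ⟶ P0} {ρV : QV ⟶ V0} {bQ : QV ⟶ Q}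
    (hρ : (yon S).map ρ ≫ π = κ ≫ v') (sq : IsPullback ρV bQ b ρ)
    {y : (yon S).obj QV ⟶ V} (sqy : IsPullback y ((yon S).map bQ) iV κ)
    (hy : y ≫ v = (yon S).map ρV ≫ p) : IsPullback iV v v' t' := by
  have hK := IsPullback.of_hasPullback v' t'
  let c : V ⟶ pullback v' t' := pullback.lift iV v w
  have hbig : IsPullback ((yon S).map ρV ≫ p) ((yon S).map bQ) t' (κ ≫ v') := by
    rw [← hρ]
    exact (sq.map (yon S)).paste_horiz sqp
  let k := hK.lift ((yon S).map bQ ≫ κ) ((yon S).map ρV ≫ p) (by rw [hbig.w, Category.assoc])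
  have hA : IsPullback k ((yon S).map bQ) (pullback.fst v' t') κ := by
    refine IsPullback.of_right ?_ (hK.lift_fst _ _ _) hK.flip
    rw [hK.lift_snd]
    exact hbig
  have hc : IsPullback y (𝟙 _) c k := by
    refine IsPullback.of_bot ?_ (hK.hom_ext ?_ ?_) hA
    · rw [Category.id_comp, pullback.lift_fst]
      exact sqy
    · rw [Category.assoc, Category.assoc, pullback.lift_fst, hK.lift_fst, Category.id_comp, sqy.w]
    · rw [Category.assoc, Category.assoc, pullback.lift_snd, hK.lift_snd, Category.id_comp, hy]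
  have he : RepWith @Etale k := repWith_of_isPullback hA.flip hκ
  have hes : RepWith @Surjective k := repWith_of_isPullback hA.flip hκs
  haveI := isLocallySurjective_of_repWith (repWith_mono (fun _ _ g (hg : Etale g) => inferInstanceAs (Flat g)) he)
    (repWith_mono (fun _ _ g (hg : Etale g) => inferInstanceAs (LocallyOfFinitePresentation g)) he) hes
  haveI : IsIso c := isIso_of_isPullback hc
  exact IsPullback.of_iso_pullback ⟨w⟩ (asIso c) (pullback.lift_fst _ _ _) (pullback.lift_snd _ _ _)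

/-- The main properties of the map between two pushouts along thickenings. -/
theorem main {X X' Y Y' U U' V V' : Space S} {t : X ⟶ X'} (ht : IsThickMor t.hom) {f : X ⟶ Y}
    (hf : IsAffineMor f.hom) {f' : X' ⟶ Y'} {t' : Y ⟶ Y'} (hY' : IsPushout t f f' t') {v : V ⟶ Y} {u' : U' ⟶ X'}
    {uV : U ⟶ V} {uU' : U ⟶ U'} {uX : U ⟶ X} (hUV : IsPullback uV.hom uX.hom v.hom f.hom)
    (hUU' : IsPullback uU'.hom uX.hom u'.hom t.hom) {iV : V ⟶ V'} {iU' : U' ⟶ V'} (hV' : IsPushout uV uU' iV iU')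
    {v' : V' ⟶ Y'} (hv'₁ : iV ≫ v' = v ≫ t') (hv'₂ : iU' ≫ v' = u' ≫ f') :
    (LocP @LocallyOfFiniteType v'.hom ↔ LocP @LocallyOfFiniteType v.hom ∧ LocP @LocallyOfFiniteType u'.hom) ∧
    (LocP @Flat v'.hom ↔ LocP @Flat v.hom ∧ LocP @Flat u'.hom) ∧
    ((LocP @Flat v'.hom ∧ LocP @LocallyOfFinitePresentation v'.hom) ↔
      (LocP @Flat v.hom ∧ LocP @LocallyOfFinitePresentation v.hom) ∧
      (LocP @Flat u'.hom ∧ LocP @LocallyOfFinitePresentation u'.hom)) ∧
    (LocP @Smooth v'.hom ↔ LocP @Smooth v.hom ∧ LocP @Smooth u'.hom) ∧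
    (LocP @Etale v'.hom ↔ LocP @Etale v.hom ∧ LocP @Etale u'.hom) ∧
    (IsPullback iV.hom v.hom v'.hom t'.hom ∧ IsPullback iU'.hom u'.hom v'.hom f'.hom) := by
  obtain ⟨-, ⟨D⟩⟩ := exists_glueChart_of_isPushout ht hf hY'
  have htU : IsThickMor uU'.hom := repWith_of_isPullback hUU'.flip ht
  have hfU : IsAffineMor uV.hom :=
    isAffineMor_iff.2 (repWith_of_isPullback hUV.flip (isAffineMor_iff.1 hf))
  obtain ⟨-, ⟨D'⟩⟩ := exists_glueChart_of_isPushout htU hfU hV'.flip
  have e₁ : iV.hom ≫ v'.hom = v.hom ≫ t'.hom := congrArg (fun k : V ⟶ Y' => k.hom) hv'₁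
  have e₂ : iU'.hom ≫ v'.hom = u'.hom ≫ f'.hom := congrArg (fun k : U' ⟶ Y' => k.hom) hv'₂
  -- the common chart
  obtain ⟨Q, ρ, q, sqQ⟩ := exists_isPullback_yon D.π (D'.π ≫ v'.hom) D.hπ.rep
  haveI : Etale q.left := etale_left (repWith_of_isPullback sqQ D.hπ)
  haveI : Surjective q.left := surjective_left (repWith_of_isPullback sqQ D.hπs)
  haveI := D.ci
  haveI := D.si
  haveI := D.aff
  haveI := D'.ci
  haveI := D'.si
  haveI := D'.aff
  have hn := nice_of_thickening (i := D.i) (j := D.j)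
  have hn' := nice_of_thickening (i := D'.i) (j := D'.j)
  have hqe : RepWith @Etale ((yon S).map q) :=
    (repWith_yon_map_iff (P := (@Etale : MorphismProperty Scheme.{u})) q).2 inferInstance
  have hqs : RepWith @Surjective ((yon S).map q) :=
    (repWith_yon_map_iff (P := (@Surjective : MorphismProperty Scheme.{u})) q).2 inferInstance
  have sW := IsPullback.of_hasPullback D'.a q
  have sV := IsPullback.of_hasPullback D'.b q
  let qW := pullback.fst D'.a q
  let aQ := pullback.snd D'.a q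
  let qV := pullback.fst D'.b q
  let bQ := pullback.snd D'.b q
  have sZ := IsPullback.of_hasPullback D'.i qW
  let qZ := pullback.fst D'.i qW
  let iQ := pullback.snd D'.i qW
  let jQ := sV.lift (qZ ≫ D'.j) (iQ ≫ aQ) (by
    have e : qZ ≫ D'.i = iQ ≫ qW := sZ.w
    rw [Category.assoc, ← D'.hpo.w, reassoc_of% e, sW.w, Category.assoc])
  have hj₁ : jQ ≫ qV = qZ ≫ D'.j := sV.lift_fst _ _ _
  have hj₂ : jQ ≫ bQ = iQ ≫ aQ := sV.lift_snd _ _ _
  have hpoQ : IsPushout iQ jQ aQ bQ := isPushout_of_flat hn' D'.hpo q sW sV sZ jQ hj₁ hj₂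
  have sZV : IsPullback qZ jQ D'.j qV := by
    refine IsPullback.of_bot ?_ hj₁.symm sV
    rw [← D'.hpo.w, hj₂]
    exact sZ.paste_vert sW
  obtain ⟨ρW, hρW⟩ := (yon S).map_surjective (D.sqw.lift ((yon S).map qW ≫ D'.w ≫ u'.hom)
    ((yon S).map (aQ ≫ ρ)) (by
      simp only [Category.assoc, ← e₂, reassoc_of% D'.sqw.w, Functor.map_comp, sqQ.w]
      rw [← (yon S).map_comp_assoc, ← (yon S).map_comp_assoc aQ q, sW.w]))
  obtain ⟨ρV, hρV⟩ := (yon S).map_surjective (D.sqp.lift ((yon S).map qV ≫ D'.p ≫ v.hom)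
    ((yon S).map (bQ ≫ ρ)) (by
      simp only [Category.assoc, ← e₁, reassoc_of% D'.sqp.w, Functor.map_comp, sqQ.w]
      rw [← (yon S).map_comp_assoc, ← (yon S).map_comp_assoc bQ q, sV.w]))
  have hW₁ : (yon S).map ρW ≫ D.w = (yon S).map qW ≫ D'.w ≫ u'.hom := by rw [hρW, D.sqw.lift_fst]
  have hW₂ : ρW ≫ D.a = aQ ≫ ρ := (yon S).map_injective (by
    rw [(yon S).map_comp ρW, hρW, D.sqw.lift_snd])
  have hV₁ : (yon S).map ρV ≫ D.p = (yon S).map qV ≫ D'.p ≫ v.hom := by rw [hρV, D.sqp.lift_fst]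
  have hV₂ : ρV ≫ D.b = bQ ≫ ρ := (yon S).map_injective (by
    rw [(yon S).map_comp ρV, hρV, D.sqp.lift_snd])
  -- cartesian over the thickening
  have big : IsPullback ((yon S).map qZ ≫ D'.x ≫ uX.hom) ((yon S).map iQ) t.hom ((yon S).map ρW ≫ D.w) := by
    rw [hW₁]
    exact (sZ.map (yon S)).paste_horiz (D'.sqt.paste_horiz hUU'.flip)
  obtain ⟨ρZ, hρZ⟩ := (yon S).map_surjective (D.sqt.lift ((yon S).map qZ ≫ D'.x ≫ uX.hom)
    ((yon S).map (iQ ≫ ρW)) (by rw [big.w, Functor.map_comp, Category.assoc]))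
  have hZ₁ : (yon S).map ρZ ≫ D.x = (yon S).map qZ ≫ D'.x ≫ uX.hom := by rw [hρZ, D.sqt.lift_fst]
  have hZ₂ : ρZ ≫ D.i = iQ ≫ ρW := (yon S).map_injective (by
    rw [(yon S).map_comp ρZ, hρZ, D.sqt.lift_snd])
  have cartW : IsPullback ρZ iQ D.i ρW := by
    refine isPullback_over (IsPullback.of_right ?_ (by rw [← Functor.map_comp, ← Functor.map_comp, hZ₂]) D.sqt)
    rw [hZ₁]
    exact big
  have big2 : IsPullback ((yon S).map qZ ≫ D'.x ≫ uX.hom) ((yon S).map jQ) f.hom ((yon S).map ρV ≫ D.p) := by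
    rw [hV₁]
    exact (sZV.map (yon S)).paste_horiz (D'.sqf.paste_horiz hUV.flip)
  have hZ₃ : ρZ ≫ D.j = jQ ≫ ρV := (yon S).map_injective (by
    refine D.sqp.hom_ext ?_ ?_
    · rw [Functor.map_comp, Functor.map_comp, Category.assoc, Category.assoc, ← D.sqf.w, reassoc_of% hZ₁]
      simpa using big2.w
    · rw [← Functor.map_comp, ← Functor.map_comp, Category.assoc, Category.assoc, ← D.hpo.w, reassoc_of% hZ₂,
        hW₂, hV₂, reassoc_of% hj₂])
  have cartV : IsPullback ρZ jQ D.j ρV := by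
    refine isPullback_over (IsPullback.of_right ?_ (by rw [← Functor.map_comp, ← Functor.map_comp, hZ₃]) D.sqf)
    rw [hZ₁]
    exact big2
  -- the scheme statements
  haveI : IsClosedImmersion iQ.left := MorphismProperty.of_isPullback (sZ.map (Over.forget S)) D'.ci
  haveI : Surjective iQ.left := MorphismProperty.of_isPullback (sZ.map (Over.forget S)) D'.si
  haveI : IsAffineHom jQ.left := MorphismProperty.of_isPullback (sZV.map (Over.forget S)) D'.aff
  have hnQ := nice_of_thickening (i := iQ) (j := jQ)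
  have ha' : aQ.left ≫ ρ.left = ρW.left ≫ D.a.left := by rw [← Over.comp_left, ← hW₂, Over.comp_left]
  have hb' : bQ.left ≫ ρ.left = ρV.left ≫ D.b.left := by rw [← Over.comp_left, ← hV₂, Over.comp_left]
  have hcW : IsPullback ρZ.left iQ.left D.i.left ρW.left := cartW.map (Over.forget S)
  have hcV : IsPullback ρZ.left jQ.left D.j.left ρV.left := cartV.map (Over.forget S)
  obtain ⟨p1, p2, p3, p4, p5⟩ := props_pushout hcW hcV hn hnQ
    (forget_isPushout D.hpo) (forget_isPushout hpoQ) ρ.left ha' hb'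
  obtain ⟨cA, cB⟩ := cart_pushout hcW hcV hn hnQ
    (forget_isPushout D.hpo) (forget_isPushout hpoQ) ρ.left ha' hb'
  -- charts
  have sy := ((sV.map (yon S)).paste_horiz D'.sqp)
  have sx := ((sW.map (yon S)).paste_horiz D'.sqw)
  have hκe := repWith_comp hqe D'.hπ
  have hκs := repWith_comp hqs D'.hπs
  have hκW := repWith_of_isPullback (sW.map (yon S)).flip hqe
  have hκWs := repWith_of_isPullback (sW.map (yon S)).flip hqs
  have hκV := repWith_of_isPullback (sV.map (yon S)).flip hqe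
  have hκVs := repWith_of_isPullback (sV.map (yon S)).flip hqs
  have c₀ : ((yon S).map q ≫ D'.π) ≫ v'.hom = (yon S).map ρ ≫ D.π := by rw [Category.assoc, sqQ.w]
  have cW : ((yon S).map qW ≫ D'.w) ≫ u'.hom = (yon S).map ρW ≫ D.w := by rw [Category.assoc, hW₁]
  have cV : ((yon S).map qV ≫ D'.p) ≫ v.hom = (yon S).map ρV ≫ D.p := by rw [Category.assoc, hV₁]
  have k₀ : ∀ (P : MorphismProperty Scheme.{u}) [EtLocProp P], LocP P v'.hom ↔ P ρ.left := fun P _ =>
    ⟨fun h => h _ _ ρ hκe D.hπ c₀, fun h => locP_of_chart hκe hκs D.hπ c₀ h⟩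
  have kW : ∀ (P : MorphismProperty Scheme.{u}) [EtLocProp P], LocP P u'.hom ↔ P ρW.left := fun P _ =>
    ⟨fun h => h _ _ ρW (repWith_comp hκW D'.hw) D.hw cW,
      fun h => locP_of_chart (repWith_comp hκW D'.hw) (repWith_comp hκWs D'.hws) D.hw cW h⟩
  have kV : ∀ (P : MorphismProperty Scheme.{u}) [EtLocProp P], LocP P v.hom ↔ P ρV.left := fun P _ =>
    ⟨fun h => h _ _ ρV (repWith_comp hκV D'.hp) D.hp cV,
      fun h => locP_of_chart (repWith_comp hκV D'.hp) (repWith_comp hκVs D'.hps) D.hp cV h⟩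
  refine ⟨?_, ?_, ?_, ?_, ?_, ?_, ?_⟩
  · rw [k₀, kV, kW]; exact p1
  · rw [k₀, kV, kW]; exact p2
  · rw [k₀, k₀, kV, kV, kW, kW]; exact p3
  · rw [k₀, kV, kW]; exact p4
  · rw [k₀, kV, kW]; exact p5
  · exact cart_of_chart e₁ hκe hκs D.sqp c₀.symm
      (IsPullback.of_map (Over.forget S) hV₂ cB.flip) sy cV
  · exact cart_of_chart e₂ hκe hκs D.sqw c₀.symm
      (IsPullback.of_map (Over.forget S) hW₂ cA.flip) sx cW

end Groth.Agent.SpPush
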