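import Groth.Agent.SpPushLib.Glue
import Groth.Agent.AlgSpLib.LocP

/-!
# Flat spaces over a pushout along a thickening are pushouts of their restrictions
-/

set_option autoImplicit false
set_option linter.all false
set_option backward.isDefEq.respectTransparency false
set_option backward.isDefEq.respectTransparency.types false
set_option maxHeartbeats 1000000

noncomputable section

universe u

open CategoryTheory CategoryTheory.Limits AlgebraicGeometry AlgSp AlgSpLib

namespace Groth.Agent.SpPush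

open Groth.Agent

variable {S : Scheme.{u}}

/-- A flat space over a glued space is the pushout of its two restrictions. -/
theorem existsUnique_desc_of_flat {G G' H H' WX WX' WY W' : Sp S} {t : G ⟶ G'} {f : G ⟶ H} {f' : G' ⟶ H'}
    {t' : H ⟶ H'} (D : GlueChart t f f' t') (hW' : IsAlgSpace W') (hH' : IsAlgSpace H') {w : W' ⟶ H'}
    (hw : LocP @Flat w) {aY : WY ⟶ W'} {bY : WY ⟶ H} (hWY : IsPullback aY bY w t')
    {aX' : WX' ⟶ W'} {bX' : WX' ⟶ G'} (hWX' : IsPullback aX' bX' w f')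
    {cY : WX ⟶ WY} {cX' : WX ⟶ WX'} {bX : WX ⟶ G} (hWX₁ : IsPullback cY bX bY f)
    (hWX₂ : IsPullback cX' bX bX' t) (hcomm : cY ≫ aY = cX' ≫ aX')
    (F : Space S) (v : WY ⟶ F.obj) (u : WX' ⟶ F.obj) (huv : cY ≫ v = cX' ≫ u) :
    ∃! m : W' ⟶ F.obj, aY ≫ m = v ∧ aX' ≫ m = u := by
  obtain ⟨C, c, h, hc, hcs, ec⟩ := exists_chart_over hW' hH' w D.π D.hπ D.hπs
  haveI : Flat h.left := hw c D.π h hc D.hπ ec
  haveI := D.ci
  haveI := D.si
  haveI := D.aff
  have hn := nice_of_thickening (i := D.i) (j := D.j)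
  have sV := IsPullback.of_hasPullback D.b h
  have sW := IsPullback.of_hasPullback D.a h
  have sZ := IsPullback.of_hasPullback D.i (pullback.fst D.a h)
  let qV := pullback.fst D.b h
  let bC := pullback.snd D.b h
  let qW := pullback.fst D.a h
  let aC := pullback.snd D.a h
  let qZ := pullback.fst D.i qW
  let iC := pullback.snd D.i qW
  let jC := sV.lift (qZ ≫ D.j) (iC ≫ aC) (by
    have e : qZ ≫ D.i = iC ≫ qW := sZ.w
    rw [Category.assoc, ← D.hpo.w, reassoc_of% e, sW.w, Category.assoc])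
  have hj₁ : jC ≫ qV = qZ ≫ D.j := sV.lift_fst _ _ _
  have hj₂ : jC ≫ bC = iC ≫ aC := sV.lift_snd _ _ _
  have hpoC : IsPushout iC jC aC bC := isPushout_of_flat hn D.hpo h sW sV sZ jC hj₁ hj₂
  have cV : ((yon S).map bC ≫ c) ≫ w = ((yon S).map qV ≫ D.p) ≫ t' := by
    rw [Category.assoc, ec, Category.assoc, D.sqp.w, ← (yon S).map_comp_assoc, ← (yon S).map_comp_assoc qV D.b, sV.w]
  have cW : ((yon S).map aC ≫ c) ≫ w = ((yon S).map qW ≫ D.w) ≫ f' := by
    rw [Category.assoc, ec, Category.assoc, D.sqw.w, ← (yon S).map_comp_assoc, ← (yon S).map_comp_assoc qW D.a, sW.w]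
  let lV := hWY.lift _ _ cV
  let lW := hWX'.lift _ _ cW
  -- compatibility on the intersection
  have cZ : ((yon S).map jC ≫ lV) ≫ bY = ((yon S).map qZ ≫ D.x) ≫ f := by
    rw [Category.assoc, hWY.lift_snd, ← (yon S).map_comp_assoc jC, hj₁, Category.assoc, D.sqf.w,
      (yon S).map_comp_assoc]
  let z := hWX₁.lift _ _ cZ
  have hz₁ : z ≫ cY = (yon S).map jC ≫ lV := hWX₁.lift_fst _ _ _
  have hz₂ : z ≫ cX' = (yon S).map iC ≫ lW := by
    refine hWX'.hom_ext ?_ ?_
    · rw [Category.assoc, Category.assoc, ← hcomm, reassoc_of% hz₁, hWY.lift_fst, hWX'.lift_fst,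
        ← (yon S).map_comp_assoc, ← (yon S).map_comp_assoc iC aC, hj₂]
    · rw [Category.assoc, Category.assoc, hWX₂.w, hWX₁.lift_snd_assoc, hWX'.lift_snd, Category.assoc, D.sqt.w,
        ← (yon S).map_comp_assoc, ← (yon S).map_comp_assoc iC qW, show qZ ≫ D.i = iC ≫ qW from sZ.w]
  have huvC : (yon S).map iC ≫ lW ≫ u = (yon S).map jC ≫ lV ≫ v := by
    rw [← reassoc_of% hz₂, ← reassoc_of% hz₁, huv]
  haveI hciC : IsClosedImmersion iC.left := MorphismProperty.of_isPullback (sZ.map (Over.forget S)) D.ci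
  haveI hsiC : Surjective iC.left := MorphismProperty.of_isPullback (sZ.map (Over.forget S)) D.si
  have sZV : IsPullback qZ jC D.j qV := by
    refine IsPullback.of_bot ?_ hj₁.symm sV
    rw [← D.hpo.w, hj₂]
    exact sZ.paste_vert sW
  haveI : IsAffineHom jC.left := MorphismProperty.of_isPullback (sZV.map (Over.forget S)) D.aff
  let hsp := isPushout_of_thickening hpoC
  let mC : (yon S).obj C ⟶ F.obj := (hsp.desc (ObjectProperty.homMk (lW ≫ u) : (ofScheme S).obj _ ⟶ F)
    (ObjectProperty.homMk (lV ≫ v)) (ObjectProperty.hom_ext _ huvC)).hom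
  have hm₁ : (yon S).map aC ≫ mC = lW ≫ u :=
    congrArg (fun k : (ofScheme S).obj (pullback D.a h) ⟶ F => k.hom) (hsp.inl_desc _ _ _)
  have hm₂ : (yon S).map bC ≫ mC = lV ≫ v :=
    congrArg (fun k : (ofScheme S).obj (pullback D.b h) ⟶ F => k.hom) (hsp.inr_desc _ _ _)
  -- values on points of the legs
  have kV : ∀ {T : Over S} (y : T ⟶ C) (η : T ⟶ D.V) (e : η ≫ D.b = y ≫ h),
      ∃ l : (yon S).obj T ⟶ WY, l ≫ aY = (yon S).map y ≫ c ∧ l ≫ bY = (yon S).map η ≫ D.p ∧
        (yon S).map y ≫ mC = l ≫ v := fun {T} y η e => by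
    refine ⟨(yon S).map (sV.lift η y e) ≫ lV, ?_, ?_, ?_⟩
    · rw [Category.assoc, hWY.lift_fst, ← (yon S).map_comp_assoc, sV.lift_snd]
    · rw [Category.assoc, hWY.lift_snd, ← (yon S).map_comp_assoc, sV.lift_fst]
    · rw [Category.assoc, ← hm₂, ← (yon S).map_comp_assoc, sV.lift_snd]
  have kW : ∀ {T : Over S} (y : T ⟶ C) (η : T ⟶ D.W) (e : η ≫ D.a = y ≫ h),
      ∃ l : (yon S).obj T ⟶ WX', l ≫ aX' = (yon S).map y ≫ c ∧ l ≫ bX' = (yon S).map η ≫ D.w ∧
        (yon S).map y ≫ mC = l ≫ u := fun {T} y η e => by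
    refine ⟨(yon S).map (sW.lift η y e) ≫ lW, ?_, ?_, ?_⟩
    · rw [Category.assoc, hWX'.lift_fst, ← (yon S).map_comp_assoc, sW.lift_snd]
    · rw [Category.assoc, hWX'.lift_snd, ← (yon S).map_comp_assoc, sW.lift_fst]
    · rw [Category.assoc, ← hm₁, ← (yon S).map_comp_assoc, sW.lift_snd]
  -- agreement on the kernel pair
  obtain ⟨R, r₁, r₂, sR⟩ := exists_isPullback_yon c c hc.rep
  haveI : Etale r₁.left := etale_left (repWith_of_isPullback sR.flip hc)
  let g := r₁ ≫ h
  haveI : Flat g.left := show Flat (r₁.left ≫ h.left) from inferInstance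
  have tV := IsPullback.of_hasPullback D.b g
  have tW := IsPullback.of_hasPullback D.a g
  have tZ := IsPullback.of_hasPullback D.i (pullback.fst D.a g)
  have hwR : (pullback.fst D.i (pullback.fst D.a g) ≫ D.j) ≫ D.b =
      (pullback.snd D.i (pullback.fst D.a g) ≫ pullback.snd D.a g) ≫ g := by
    rw [Category.assoc, ← D.hpo.w, reassoc_of% tZ.w, tW.w, Category.assoc]
  have hpoR := isPushout_of_flat hn D.hpo g tW tV tZ (tV.lift _ _ hwR) (tV.lift_fst _ _ _) (tV.lift_snd _ _ _)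
  have hg : (yon S).map (r₂ ≫ h) ≫ D.π = (yon S).map g ≫ D.π := by
    rw [Functor.map_comp, Functor.map_comp, Category.assoc, Category.assoc, ← ec, reassoc_of% sR.w]
  have agree : (yon S).map r₁ ≫ mC = (yon S).map r₂ ≫ mC := by
    refine eq_of_pushout hpoR F.property ?_ ?_
    · let e₀ := pullback.snd D.a g
      obtain ⟨η', hη'⟩ := (yon S).map_surjective (D.sqw.lift ((yon S).map (pullback.fst D.a g) ≫ D.w)
        ((yon S).map (e₀ ≫ r₂ ≫ h)) (by
          rw [Category.assoc, D.sqw.w, ← (yon S).map_comp_assoc, tW.w, (yon S).map_comp_assoc, ← hg,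
            ← (yon S).map_comp_assoc]))
      obtain ⟨l, l₁, l₂, l₃⟩ := kW (e₀ ≫ r₁) (pullback.fst D.a g) (by rw [tW.w, Category.assoc])
      obtain ⟨l', l₁', l₂', l₃'⟩ := kW (e₀ ≫ r₂) η' ((yon S).map_injective (by
        rw [(yon S).map_comp η', hη', D.sqw.lift_snd, Category.assoc]))
      have : l = l' := hWX'.hom_ext
        (by rw [l₁, l₁', Functor.map_comp, Functor.map_comp, Category.assoc, Category.assoc, sR.w])
        (by rw [l₂, l₂', hη', D.sqw.lift_fst])
      rw [← (yon S).map_comp_assoc, ← (yon S).map_comp_assoc, l₃, l₃', this]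
    · let e₀ := pullback.snd D.b g
      obtain ⟨η', hη'⟩ := (yon S).map_surjective (D.sqp.lift ((yon S).map (pullback.fst D.b g) ≫ D.p)
        ((yon S).map (e₀ ≫ r₂ ≫ h)) (by
          rw [Category.assoc, D.sqp.w, ← (yon S).map_comp_assoc, tV.w, (yon S).map_comp_assoc, ← hg,
            ← (yon S).map_comp_assoc]))
      obtain ⟨l, l₁, l₂, l₃⟩ := kV (e₀ ≫ r₁) (pullback.fst D.b g) (by rw [tV.w, Category.assoc])
      obtain ⟨l', l₁', l₂', l₃'⟩ := kV (e₀ ≫ r₂) η' ((yon S).map_injective (by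
        rw [(yon S).map_comp η', hη', D.sqp.lift_snd, Category.assoc]))
      have : l = l' := hWY.hom_ext
        (by rw [l₁, l₁', Functor.map_comp, Functor.map_comp, Category.assoc, Category.assoc, sR.w])
        (by rw [l₂, l₂', hη', D.sqp.lift_fst])
      rw [← (yon S).map_comp_assoc, ← (yon S).map_comp_assoc, l₃, l₃', this]
  obtain ⟨m, hm⟩ := exists_desc_of_atlas hc hcs mC fun Z g₁ g₂ e => by
    obtain ⟨r, hr⟩ := (yon S).map_surjective (sR.lift _ _ e)
    have e₁ : (yon S).map r ≫ (yon S).map r₁ = (yon S).map g₁ := by rw [hr, sR.lift_fst]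
    have e₂ : (yon S).map r ≫ (yon S).map r₂ = (yon S).map g₂ := by rw [hr, sR.lift_snd]
    rw [← e₁, ← e₂, Category.assoc, Category.assoc, agree]
  -- the charts of the two restrictions
  have eV : IsPullback lV ((yon S).map bC) aY c := by
    refine IsPullback.of_right ?_ (hWY.lift_fst _ _ _) hWY.flip
    rw [hWY.lift_snd, ec]
    exact (sV.map (yon S)).paste_horiz D.sqp
  have eW : IsPullback lW ((yon S).map aC) aX' c := by
    refine IsPullback.of_right ?_ (hWX'.lift_fst _ _ _) hWX'.flip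
    rw [hWX'.lift_snd, ec]
    exact (sW.map (yon S)).paste_horiz D.sqw
  have hlV := repWith_of_isPullback eV.flip hc
  have hlVs := repWith_of_isPullback eV.flip hcs
  have hlW := repWith_of_isPullback eW.flip hc
  have hlWs := repWith_of_isPullback eW.flip hcs
  refine ⟨m, ⟨hom_ext_of_atlas hlV hlVs ?_, hom_ext_of_atlas hlW hlWs ?_⟩, fun m' hm' => ?_⟩
  · rw [reassoc_of% eV.w, hm, hm₂]
  · rw [reassoc_of% eW.w, hm, hm₁]
  · obtain ⟨h₁, h₂⟩ := hm'
    refine hom_ext_of_atlas hc hcs (eq_of_pushout hpoC F.property ?_ ?_)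
    · rw [← reassoc_of% eW.w, h₂, hm, hm₁]
    · rw [← reassoc_of% eV.w, h₁, hm, hm₂]

end Groth.Agent.SpPush
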