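import Groth.Agent.SpPushLib.Integral

/-!
# A criterion for colimits of schemes to remain colimits among algebraic spaces
-/

set_option autoImplicit false
set_option linter.all false
set_option backward.isDefEq.respectTransparency false
set_option backward.isDefEq.respectTransparency.types false
set_option maxHeartbeats 1000000

noncomputable section

universe w v u

open CategoryTheory CategoryTheory.Limits AlgebraicGeometry AlgSp AlgSpLib

namespace Groth.Agent.SpPush

open Groth.Agent

variable {S : Scheme.{u}} {I : Type v} [Category.{w} I] {D : I ⥤ Over S}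

/-- Two points of an algebraic space on a colimit of schemes which agree on all legs agree. -/
theorem eq_of_colimit (c : Cocone D) (hc : IsColimit c) {F : Sp S} (hF : IsAlgSpace F)
    {m m' : (yon S).obj c.pt ⟶ F}
    (h : ∀ i, (yon S).map (c.ι.app i) ≫ m = (yon S).map (c.ι.app i) ≫ m') : m = m' := by
  let d := prod.lift m m'
  obtain ⟨E, e, fst, sq⟩ : ∃ (E : Over S) (e : E ⟶ c.pt) (fst : (yon S).obj E ⟶ F),
      IsPullback fst ((yon S).map e) (Limits.diag F) d := ⟨_, _, _, hF.diag.isPullback d⟩
  choose σ hσ using fun i => (yon S).map_surjective (sq.lift ((yon S).map (c.ι.app i) ≫ m)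
    ((yon S).map (c.ι.app i)) (Limits.prod.hom_ext (by simp [d]) (by simp [d, h i])))
  have hσe : ∀ i, σ i ≫ e = c.ι.app i := fun i =>
    (yon S).map_injective (by rw [Functor.map_comp, hσ, sq.lift_snd])
  have hnat : ∀ ⦃i j : I⦄ (f : i ⟶ j), D.map f ≫ σ j = σ i := fun i j f => (yon S).map_injective (by
    refine sq.hom_ext ?_ ?_
    · rw [Functor.map_comp, Category.assoc, hσ, hσ, sq.lift_fst, sq.lift_fst, ← (yon S).map_comp_assoc, c.w]
    · rw [← Functor.map_comp, ← Functor.map_comp, Category.assoc, hσe, hσe, c.w])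
  let sE : Cocone D := { pt := E, ι := { app := σ, naturality := fun i j f => by simp [hnat f] } }
  have hs : hc.desc sE ≫ e = 𝟙 c.pt := hc.hom_ext fun i => by
    rw [hc.fac_assoc, hσe, Category.comp_id]
  have key : d = (yon S).map (hc.desc sE) ≫ fst ≫ Limits.diag F := by
    rw [sq.w, ← (yon S).map_comp_assoc, hs, CategoryTheory.Functor.map_id, Category.id_comp]
  have h1 : d ≫ prod.fst = (yon S).map (hc.desc sE) ≫ fst := by rw [key]; simp
  have h2 : d ≫ prod.snd = (yon S).map (hc.desc sE) ≫ fst := by rw [key]; simp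
  rw [prod.lift_fst] at h1
  rw [prod.lift_snd] at h2
  rw [h1, h2]

/-- The criterion. -/
theorem isColimit_ofScheme_of_etale (c : Cocone D) (h₁ : IsColimit ((Over.forget S).mapCocone c))
    (h₂ : ∀ x : ↥c.pt.left, ∃ (i : I) (y : ↥(D.obj i).left), (c.ι.app i).left y = x)
    (h₃ : ∀ (D' : I ⥤ Over S) (α : D' ⟶ D) (c' : Cocone D') (a : c'.pt ⟶ c.pt), Etale a.left →
      (∀ i, IsPullback (c'.ι.app i) (α.app i) a (c.ι.app i)) → Nonempty (IsColimit ((Over.forget S).mapCocone c')))
    (h₄ : ∀ (D' : I ⥤ Over S) (α : D' ⟶ D), NatTrans.Equifibered α → (∀ i, Etale (α.app i).left) →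
      (∀ i, IsSeparated (α.app i).left) →
      ∃ (c' : Cocone D') (a : c'.pt ⟶ c.pt), Etale a.left ∧ ∀ i, IsPullback (c'.ι.app i) (α.app i) a (c.ι.app i)) :
    Nonempty (IsColimit ((AlgSp.ofScheme S).mapCocone c)) := by
  have hc : IsColimit c := isColimitOfReflects (Over.forget S) h₁
  have hex : ∀ (F : Space S) (x : ∀ i, (yon S).obj (D.obj i) ⟶ F.obj),
      (∀ ⦃i j : I⦄ (f : i ⟶ j), (yon S).map (D.map f) ≫ x j = x i) →
      ∃ m : (yon S).obj c.pt ⟶ F.obj, ∀ i, (yon S).map (c.ι.app i) ≫ m = x i := by
    intro F x hx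
    have hF := F.property
    obtain ⟨W, w, hWsep, hw, hws⟩ := exists_separated_atlas hF
    choose U lU pU sqU using fun i => exists_isPullback_yon w (x i) (hF.representable_from_yon w)
    have htr : ∀ ⦃i j : I⦄ (f : i ⟶ j), ∃ g : U i ⟶ U j, g ≫ lU j = lU i ∧ g ≫ pU j = pU i ≫ D.map f := by
      intro i j f
      obtain ⟨g, hg⟩ := (yon S).map_surjective ((sqU j).lift ((yon S).map (lU i)) ((yon S).map (pU i ≫ D.map f))
        (by rw [(sqU i).w, (yon S).map_comp_assoc, hx f]))
      exact ⟨g, (yon S).map_injective (by rw [Functor.map_comp, hg, (sqU j).lift_fst]),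
        (yon S).map_injective (by rw [(yon S).map_comp g, hg, (sqU j).lift_snd])⟩
    choose g hg₁ hg₂ using htr
    have huniq : ∀ (i : I) {T : Over S} (z z' : T ⟶ U i), z ≫ lU i = z' ≫ lU i → z ≫ pU i = z' ≫ pU i → z = z' :=
      fun i T z z' e₁ e₂ => (yon S).map_injective ((sqU i).hom_ext
        (by rw [← Functor.map_comp, ← Functor.map_comp, e₁]) (by rw [← Functor.map_comp, ← Functor.map_comp, e₂]))
    let D' : I ⥤ Over S :=
      { obj := U
        map := fun f => g f
        map_id := fun i => huniq i _ _ (by simp [hg₁]) (by simp [hg₂])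
        map_comp := fun {i j k} f f' => huniq k _ _ (by simp [hg₁]) (by simp [hg₂, reassoc_of% hg₂]) }
    let α : D' ⟶ D := { app := pU, naturality := fun i j f => hg₂ f }
    have hα : NatTrans.Equifibered α := fun i j f => by
      have big : IsPullback ((yon S).map (g f) ≫ (yon S).map (lU j)) ((yon S).map (pU i)) w
          ((yon S).map (D.map f) ≫ x j) := by
        rw [← Functor.map_comp, hg₁, hx f]
        exact sqU i
      have hp : (yon S).map (g f) ≫ (yon S).map (pU j) = (yon S).map (pU i) ≫ (yon S).map (D.map f) := by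
        rw [← Functor.map_comp, hg₂, Functor.map_comp]
      exact (IsPullback.of_map (yon S) (hg₂ f) (IsPullback.of_right big hp (sqU j)) : IsPullback (g f) (pU i) (pU j) (D.map f))
    have hpe : ∀ i, Etale (pU i).left := fun i => etale_left (repWith_of_isPullback (sqU i) hw)
    obtain ⟨c', a, ha, hca⟩ := h₄ D' α hα hpe fun i => isSeparated_of_chart hWsep (sqU i)
    haveI := ha
    haveI : Surjective a.left := ⟨fun p => by
      obtain ⟨i, y, rfl⟩ := h₂ p
      haveI : Surjective (pU i).left := surjective_left (repWith_of_isPullback (sqU i) hws)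
      obtain ⟨y', rfl⟩ := (pU i).left.surjective y
      exact ⟨(c'.ι.app i).left y', by
        have e : c'.ι.app i ≫ a = pU i ≫ c.ι.app i := (hca i).w
        exact congrArg (fun k => k.left y') e⟩⟩
    obtain ⟨hc'₀⟩ := h₃ D' α c' a ha hca
    have hc' : IsColimit c' := isColimitOfReflects (Over.forget S) hc'₀
    let sW : Cocone D' := { pt := W, ι := { app := lU, naturality := fun i j f => (hg₁ f).trans (Category.comp_id _).symm } }
    let l := hc'.desc sW
    have hl : ∀ i, c'.ι.app i ≫ l = lU i := fun i => hc'.fac sW i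
    -- the base change to the kernel pair
    let r₁ : pullback a a ⟶ c'.pt := pullback.fst a a
    let r₂ : pullback a a ⟶ c'.pt := pullback.snd a a
    let q := r₁ ≫ a
    haveI : Etale r₁.left :=
      MorphismProperty.of_isPullback ((IsPullback.of_hasPullback a a).map (Over.forget S)).flip ha
    haveI : Etale q.left := show Etale (r₁.left ≫ a.left) from inferInstance
    let D'' : I ⥤ Over S :=
      { obj := fun i => pullback q (c.ι.app i)
        map := fun {i j} f => pullback.lift (pullback.fst q (c.ι.app i)) (pullback.snd q (c.ι.app i) ≫ D.map f)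
          (by rw [Category.assoc, c.w, pullback.condition])
        map_id := fun i => pullback.hom_ext (by simp) (by simp)
        map_comp := fun {i j k} f f' => pullback.hom_ext (by simp) (by simp) }
    let β : D'' ⟶ D :=
      { app := fun i => pullback.snd q (c.ι.app i), naturality := fun i j f => pullback.lift_snd _ _ _ }
    let c'' : Cocone D'' :=
      { pt := pullback a a
        ι := { app := fun i => pullback.fst q (c.ι.app i),
               naturality := fun i j f => (pullback.lift_fst _ _ _).trans (Category.comp_id _).symm } }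
    obtain ⟨hc''₀⟩ := h₃ D'' β c'' q inferInstance fun i => IsPullback.of_hasPullback q (c.ι.app i)
    have hc'' : IsColimit c'' := isColimitOfReflects (Over.forget S) hc''₀
    have hk₂ : r₂ ≫ a = q := pullback.condition.symm
    have side : ∀ (i : I) (t : pullback a a ⟶ c'.pt) (ht : t ≫ a = q),
        (yon S).map (pullback.fst q (c.ι.app i)) ≫ (yon S).map (t ≫ l) ≫ w =
          (yon S).map (pullback.snd q (c.ι.app i)) ≫ x i := by
      intro i t ht
      have e := pullback.condition (f := q) (g := c.ι.app i)
      let z := (hca i).lift (pullback.fst q (c.ι.app i) ≫ t) (pullback.snd q (c.ι.app i))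
        (by rw [Category.assoc, ht, e])
      have hz₁ : z ≫ lU i = pullback.fst q (c.ι.app i) ≫ t ≫ l := by
        rw [← hl, (hca i).lift_fst_assoc, Category.assoc]
      have hz₂ : z ≫ pU i = pullback.snd q (c.ι.app i) := (hca i).lift_snd _ _ _
      rw [← (yon S).map_comp_assoc, ← hz₁, (yon S).map_comp_assoc, (sqU i).w, ← (yon S).map_comp_assoc, hz₂]
    have agree : (yon S).map (r₁ ≫ l) ≫ w = (yon S).map (r₂ ≫ l) ≫ w :=
      eq_of_colimit c'' hc'' hF fun i => (side i r₁ rfl).trans (side i r₂ hk₂).symm
    have hae : RepWith @Etale ((yon S).map a) :=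
      (repWith_yon_map_iff (P := (@Etale : MorphismProperty Scheme.{u})) a).2 inferInstance
    have has : RepWith @Surjective ((yon S).map a) :=
      (repWith_yon_map_iff (P := (@Surjective : MorphismProperty Scheme.{u})) a).2 inferInstance
    obtain ⟨m, hm⟩ := exists_desc_of_atlas hae has ((yon S).map l ≫ w) fun T y y' h => by
      have h' : y ≫ a = y' ≫ a := (yon S).map_injective (by rw [Functor.map_comp, Functor.map_comp, h])
      have e : ∀ {r : pullback a a ⟶ c'.pt} {y₀ : T ⟶ c'.pt}, pullback.lift y y' h' ≫ r = y₀ →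
          (yon S).map y₀ ≫ (yon S).map l ≫ w = (yon S).map (pullback.lift y y' h') ≫ (yon S).map (r ≫ l) ≫ w := by
        intro r y₀ hr
        rw [← hr, Functor.map_comp, Functor.map_comp, Category.assoc, Category.assoc]
      rw [e (pullback.lift_fst y y' h'), e (pullback.lift_snd y y' h'), agree]
    refine ⟨m, fun i => ?_⟩
    have hi := (hca i).map (yon S)
    refine hom_ext_of_atlas (repWith_of_isPullback hi hae) (repWith_of_isPullback hi has) ?_
    rw [← reassoc_of% hi.w, hm, ← (yon S).map_comp_assoc (c'.ι.app i) l, hl, (sqU i).w]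
  choose m hm using fun s : Cocone (D ⋙ ofScheme S) =>
    hex s.pt (fun i => (s.ι.app i).hom) fun i j f =>
      congrArg (fun k : (ofScheme S).obj (D.obj i) ⟶ s.pt => k.hom) (s.w f)
  exact ⟨{
    desc := fun s => ObjectProperty.homMk (m s)
    fac := fun s i => ObjectProperty.hom_ext _ (hm s i)
    uniq := fun s k hk => ObjectProperty.hom_ext _ (eq_of_colimit c hc s.pt.property fun i =>
      ((congrArg (fun k : (ofScheme S).obj (D.obj i) ⟶ s.pt => k.hom) (hk i) :
        (yon S).map (c.ι.app i) ≫ k.hom = (s.ι.app i).hom)).trans (hm s i).symm) }⟩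

end Groth.Agent.SpPush
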