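import Groth.Agent.SpPushLib.Integral
import Groth.Agent.AlgSpLib.MorPack
import Groth.Agent.AlgSpLib.Iso
import Groth.Agent.AlgSpLib.SheafDesc

/-!
# Colimits among separated spaces are colimits among all algebraic spaces
-/

set_option autoImplicit false
set_option linter.all false
set_option backward.isDefEq.respectTransparency false
set_option backward.isDefEq.respectTransparency.types false
set_option maxHeartbeats 2000000

noncomputable section

universe w v u

open CategoryTheory CategoryTheory.Limits AlgebraicGeometry AlgSp AlgSpLib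

namespace Groth.Agent.SpPush

open Groth.Agent

variable {S : Scheme.{u}}

theorem isSeparatedMor_of_mono {F G : Sp S} (f : F ⟶ G) [Mono f] : IsSeparatedMor f := repWith_of_isIso _

theorem isSeparatedMor_of_isPullback {F G F' G' : Sp S} {fst : F' ⟶ F} {snd : F' ⟶ G'} {f : F ⟶ G} {g : G' ⟶ G}
    (sq : IsPullback fst snd f g) (h : IsSeparatedMor f) : IsSeparatedMor snd :=
  repWith_of_isPullback (isPullback_diagonal sq) h

variable {B : Space S} (P : ObjectProperty (Over B))

/-- An object of the separated subcategory. -/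
def sepObj (hP : ∀ T : Over B, P T ↔ IsSeparatedMor T.hom.hom) {F : Sp S} (hF : IsAlgSpace F) (b : F ⟶ B.obj)
    (hb : IsSeparatedMor b) : P.FullSubcategory :=
  ⟨Over.mk (ObjectProperty.homMk b : (⟨F, hF⟩ : Space S) ⟶ B), (hP _).2 hb⟩

/-- A morphism of the separated subcategory. -/
def sepHom {T T' : P.FullSubcategory} (g : T.obj.left.obj ⟶ T'.obj.left.obj)
    (hg : g ≫ T'.obj.hom.hom = T.obj.hom.hom) : T ⟶ T' :=
  ObjectProperty.homMk (Over.homMk (ObjectProperty.homMk g) (ObjectProperty.hom_ext _ hg))

theorem sep_ext {T T' : P.FullSubcategory} {g g' : T ⟶ T'} (h : g.hom.left.hom = g'.hom.left.hom) : g = g' :=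
  ObjectProperty.hom_ext _ (Over.OverMorphism.ext (ObjectProperty.hom_ext _ h))

theorem w_hom {T T' : P.FullSubcategory} (g : T ⟶ T') : g.hom.left.hom ≫ T'.obj.hom.hom = T.obj.hom.hom :=
  congrArg (fun k : T.obj.left ⟶ B => k.hom) (Over.w g.hom)

variable {P} {I : Type v} [Category.{w} I] {D : I ⥤ P.FullSubcategory}

/-- Morphisms out of a colimit of separated spaces into any space are determined on the legs. -/
theorem eq_of_sepColimit (hP : ∀ T : Over B, P T ↔ IsSeparatedMor T.hom.hom) (c : Cocone D) (hc : IsColimit c)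
    {F : Sp S} (hF : IsAlgSpace F) {m m' : c.pt.obj.left.obj ⟶ F}
    (h : ∀ i, (c.ι.app i).hom.left.hom ≫ m = (c.ι.app i).hom.left.hom ≫ m') : m = m' := by
  let d := prod.lift m m'
  have sq := IsPullback.of_hasPullback (Limits.diag F) d
  let E := pullback (Limits.diag F) d
  let e : E ⟶ c.pt.obj.left.obj := pullback.snd (Limits.diag F) d
  haveI : IsSplitMono (Limits.diag F) := ⟨⟨⟨prod.fst, prod.lift_fst _ _⟩⟩⟩
  haveI : Mono e := inferInstance
  have hE : IsAlgSpace E :=
    isAlgSpace_of_representable c.pt.obj.left.property e (MorphismProperty.of_isPullback sq hF.diag)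
  let EP := sepObj P hP hE (e ≫ c.pt.obj.hom.hom)
    (isSeparatedMor_comp (isSeparatedMor_of_mono e) ((hP _).1 c.pt.property))
  have hcB : ∀ i, (c.ι.app i).hom.left.hom ≫ c.pt.obj.hom.hom = (D.obj i).obj.hom.hom := fun i =>
    w_hom P (c.ι.app i)
  let σ : ∀ i, (D.obj i).obj.left.obj ⟶ E := fun i =>
    sq.lift ((c.ι.app i).hom.left.hom ≫ m) (c.ι.app i).hom.left.hom (Limits.prod.hom_ext (by simp [d]) (by simp [d, h i]))
  have hσe : ∀ i, σ i ≫ e = (c.ι.app i).hom.left.hom := fun i => sq.lift_snd _ _ _
  let sE : Cocone D :=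
    { pt := EP
      ι :=
        { app := fun i => sepHom P (T' := EP) (σ i) (by
            show σ i ≫ e ≫ c.pt.obj.hom.hom = _
            rw [reassoc_of% hσe i, hcB i])
          naturality := fun i j f => sep_ext P (by
            show (D.map f).hom.left.hom ≫ σ j = σ i ≫ 𝟙 _
            rw [Category.comp_id, ← cancel_mono e, Category.assoc, hσe, hσe]
            exact congrArg (fun k : D.obj i ⟶ c.pt => k.hom.left.hom) (c.w f)) } }
  let eP : EP ⟶ c.pt := sepHom P (T := EP) e rfl
  have hs : hc.desc sE ≫ eP = 𝟙 c.pt := hc.hom_ext fun i => by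
    rw [hc.fac_assoc, Category.comp_id]
    exact sep_ext P (hσe i)
  have hs' : (hc.desc sE).hom.left.hom ≫ e = 𝟙 c.pt.obj.left.obj :=
    congrArg (fun k : c.pt ⟶ c.pt => k.hom.left.hom) hs
  have key : d = (hc.desc sE).hom.left.hom ≫ pullback.fst (Limits.diag F) d ≫ Limits.diag F := by
    have e1 : (hc.desc sE).hom.left.hom ≫ e ≫ d = d := by rw [reassoc_of% hs']
    exact e1.symm.trans (congrArg _ sq.w.symm)
  have h1 : d ≫ prod.fst = (hc.desc sE).hom.left.hom ≫ pullback.fst (Limits.diag F) d := by
    refine (congrArg (fun k : c.pt.obj.left.obj ⟶ F ⨯ F => k ≫ prod.fst) key).trans ?_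
    simp
  have h2 : d ≫ prod.snd = (hc.desc sE).hom.left.hom ≫ pullback.fst (Limits.diag F) d := by
    refine (congrArg (fun k : c.pt.obj.left.obj ⟶ F ⨯ F => k ≫ prod.snd) key).trans ?_
    simp
  rw [prod.lift_fst] at h1
  rw [prod.lift_snd] at h2
  rw [h1, h2]

/-- The criterion. -/
theorem isColimit_of_separated (hP : ∀ T : Over B, P T ↔ IsSeparatedMor T.hom.hom) (c : Cocone D)
    (hc : IsColimit c)
    (h₃ : ∀ x : Points c.pt.obj.left.obj, ∃ (i : I) (y : Points (D.obj i).obj.left.obj),
      Points.map (c.ι.app i).hom.left.hom y = x)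
    (h₄ : ∀ (D' : I ⥤ P.FullSubcategory) (α : D' ⟶ D) (c' : Cocone D') (a : c'.pt ⟶ c.pt),
      IsEtaleMor a.hom.left.hom → IsSeparatedMor a.hom.left.hom →
      (∀ i, IsPullback (c'.ι.app i).hom.left.hom (α.app i).hom.left.hom a.hom.left.hom (c.ι.app i).hom.left.hom) →
        Nonempty (IsColimit c'))
    (h₅ : ∀ (D' : I ⥤ P.FullSubcategory) (α : D' ⟶ D),
      (∀ ⦃i j : I⦄ (g : i ⟶ j), IsPullback (D'.map g).hom.left.hom (α.app i).hom.left.hom (α.app j).hom.left.hom
        (D.map g).hom.left.hom) →
      (∀ i, IsEtaleMor (α.app i).hom.left.hom) → (∀ i, IsSeparatedMor (α.app i).hom.left.hom) →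
        ∃ (c' : Cocone D') (a : c'.pt ⟶ c.pt), IsEtaleMor a.hom.left.hom ∧ IsSeparatedMor a.hom.left.hom ∧
          ∀ i, IsPullback (c'.ι.app i).hom.left.hom (α.app i).hom.left.hom a.hom.left.hom (c.ι.app i).hom.left.hom) :
    Nonempty (IsColimit (P.ι.mapCocone c)) := by
  have hcB : ∀ i, (c.ι.app i).hom.left.hom ≫ c.pt.obj.hom.hom = (D.obj i).obj.hom.hom := fun i =>
    w_hom P (c.ι.app i)
  have hex : ∀ (F : Over B) (x : ∀ i, (D.obj i).obj.left.obj ⟶ F.left.obj),
      (∀ i, x i ≫ F.hom.hom = (D.obj i).obj.hom.hom) →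
      (∀ ⦃i j : I⦄ (f : i ⟶ j), (D.map f).hom.left.hom ≫ x j = x i) →
      ∃ m : c.pt.obj.left.obj ⟶ F.left.obj, m ≫ F.hom.hom = c.pt.obj.hom.hom ∧
        ∀ i, (c.ι.app i).hom.left.hom ≫ m = x i := by
    intro F x hxB hx
    have hF := F.left.property
    obtain ⟨W, w, hWsep, hw, hws⟩ := exists_separated_atlas hF
    let top := (Over.mkIdTerminal (X := S)).isTerminalObj (yon S) _
    have hwB : IsSeparatedMor (w ≫ F.hom.hom) := by
      refine isSeparatedMor_of_comp (IsAlgSpace.yon_obj W) (g := top.from B.obj) ?_
      rw [show (w ≫ F.hom.hom) ≫ top.from B.obj = (yon S).map (Over.mkIdTerminal.from W) from top.hom_ext _ _]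
      rw [isSeparatedMor_yon_map_iff, Over.mkIdTerminal_from_left]
      exact hWsep
    let WP := sepObj P hP (IsAlgSpace.yon_obj W) (w ≫ F.hom.hom) hwB
    let U : I → Sp S := fun i => pullback w (x i)
    have sqU : ∀ i, IsPullback (pullback.fst w (x i)) (pullback.snd w (x i)) w (x i) := fun i =>
      IsPullback.of_hasPullback w (x i)
    have hU : ∀ i, IsAlgSpace (U i) := fun i =>
      isAlgSpace_pullback (IsAlgSpace.yon_obj W) (D.obj i).obj.left.property hF w (x i)
    have hUB : ∀ i, IsSeparatedMor (pullback.snd w (x i) ≫ (D.obj i).obj.hom.hom) := fun i => by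
      have h1 : IsSeparatedMor (x i) := isSeparatedMor_of_comp (D.obj i).obj.left.property (g := F.hom.hom)
        (by rw [hxB]; exact (hP _).1 (D.obj i).property)
      have h2 := isSeparatedMor_comp (isSeparatedMor_of_isPullback (sqU i).flip h1) hwB
      rw [← Category.assoc, (sqU i).w, Category.assoc, hxB] at h2
      exact h2
    let D' : I ⥤ P.FullSubcategory :=
      { obj := fun i => sepObj P hP (hU i) _ (hUB i)
        map := fun {i j} f => sepHom P (T := sepObj P hP (hU i) _ (hUB i)) (T' := sepObj P hP (hU j) _ (hUB j))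
          (pullback.lift (pullback.fst w (x i)) (pullback.snd w (x i) ≫ (D.map f).hom.left.hom)
            (by rw [Category.assoc, hx f, pullback.condition])) (by
            show pullback.lift _ _ _ ≫ pullback.snd w (x j) ≫ (D.obj j).obj.hom.hom = _
            rw [pullback.lift_snd_assoc, Category.assoc, w_hom P (D.map f)]
            rfl)
        map_id := fun i => sep_ext P (by
          show pullback.lift _ _ _ = 𝟙 (pullback w (x i))
          refine pullback.hom_ext ?_ ?_
          · rw [pullback.lift_fst, Category.id_comp]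
          · rw [pullback.lift_snd, Category.id_comp, D.map_id]
            exact Category.comp_id _)
        map_comp := fun {i j k} f f' => sep_ext P (by
          show pullback.lift _ _ _ = pullback.lift _ _ _ ≫ pullback.lift _ _ _
          refine pullback.hom_ext ?_ ?_
          · simp only [Category.assoc, pullback.lift_fst]
          · simp only [Category.assoc, pullback.lift_snd, pullback.lift_snd_assoc, D.map_comp]
            rfl) }
    let α : D' ⟶ D :=
      { app := fun i => sepHom P (T := D'.obj i) (pullback.snd w (x i)) rfl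
        naturality := fun i j f => sep_ext P (by
          show pullback.lift _ _ _ ≫ pullback.snd w (x j) = pullback.snd w (x i) ≫ (D.map f).hom.left.hom
          rw [pullback.lift_snd]) }
    have hpe : ∀ i, IsEtaleMor (pullback.snd w (x i)) := fun i =>
      isEtaleMor_of_isPullback (IsAlgSpace.yon_obj W) hF (D.obj i).obj.left.property (sqU i) (isEtaleMor_of_repWith hw)
    have hps : ∀ i, IsSeparatedMor (pullback.snd w (x i)) := fun i =>
      isSeparatedMor_of_comp (hU i) (g := (D.obj i).obj.hom.hom) (hUB i)
    obtain ⟨c', a, hae, hasep, hca⟩ := h₅ D' α (fun i j f => by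
      have big : IsPullback ((D'.map f).hom.left.hom ≫ pullback.fst w (x j)) (pullback.snd w (x i)) w
          ((D.map f).hom.left.hom ≫ x j) := by
        rw [hx f, show (D'.map f).hom.left.hom ≫ pullback.fst w (x j) = pullback.fst w (x i) from pullback.lift_fst _ _ _]
        exact sqU i
      exact IsPullback.of_right big (pullback.lift_snd _ _ _) (sqU j)) hpe hps
    have hasurj : IsSurjectiveMor a.hom.left.hom := fun p => by
      obtain ⟨i, y, rfl⟩ := h₃ p
      obtain ⟨y', rfl⟩ := map_surjective_of_isPullback (sqU i) (map_surjective_of_repWith hws) y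
      refine ⟨Points.map (c'.ι.app i).hom.left.hom y', ?_⟩
      rw [← Points.map_comp, (hca i).w, Points.map_comp]
      rfl
    haveI := isLocallySurjective_of_etale_surjective c'.pt.obj.left.property c.pt.obj.left.property hae hasurj
    obtain ⟨hc'⟩ := h₄ D' α c' a hae hasep hca
    let sW : Cocone D' :=
      { pt := WP
        ι :=
          { app := fun i => sepHom P (T := D'.obj i) (T' := WP) (pullback.fst w (x i)) (by
              show pullback.fst w (x i) ≫ w ≫ F.hom.hom = pullback.snd w (x i) ≫ (D.obj i).obj.hom.hom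
              rw [pullback.condition_assoc, hxB])
            naturality := fun i j f => sep_ext P ((pullback.lift_fst _ _ _).trans (Category.comp_id _).symm) } }
    let l := (hc'.desc sW).hom.left.hom
    have hl : ∀ i, (c'.ι.app i).hom.left.hom ≫ l = pullback.fst w (x i) := fun i =>
      congrArg (fun k : D'.obj i ⟶ WP => k.hom.left.hom) (hc'.fac sW i)
    -- the kernel pair
    let A := a.hom.left.hom
    let K := pullback A A
    have hK : IsAlgSpace K := isAlgSpace_pullback c'.pt.obj.left.property c'.pt.obj.left.property c.pt.obj.left.property A A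
    have sqK := IsPullback.of_hasPullback A A
    have hr₁e : IsEtaleMor (pullback.fst A A) :=
      isEtaleMor_of_isPullback c'.pt.obj.left.property c.pt.obj.left.property c'.pt.obj.left.property sqK.flip hae
    have hr₁s : IsSeparatedMor (pullback.fst A A) := isSeparatedMor_of_isPullback sqK.flip hasep
    let q := pullback.fst A A ≫ A
    have hqe : IsEtaleMor q := isEtaleMor_comp hae hr₁e
    have hqs : IsSeparatedMor q := isSeparatedMor_comp hr₁s hasep
    have hKB : IsSeparatedMor (q ≫ c.pt.obj.hom.hom) := isSeparatedMor_comp hqs ((hP _).1 c.pt.property)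
    let KP := sepObj P hP hK _ hKB
    have sqQ : ∀ i, IsPullback (pullback.fst q (c.ι.app i).hom.left.hom) (pullback.snd q (c.ι.app i).hom.left.hom) q
        (c.ι.app i).hom.left.hom := fun i => IsPullback.of_hasPullback _ _
    have hQ : ∀ i, IsAlgSpace (pullback q (c.ι.app i).hom.left.hom) := fun i =>
      isAlgSpace_pullback hK (D.obj i).obj.left.property c.pt.obj.left.property _ _
    have hQB : ∀ i, IsSeparatedMor (pullback.snd q (c.ι.app i).hom.left.hom ≫ (D.obj i).obj.hom.hom) := fun i =>
      isSeparatedMor_comp (isSeparatedMor_of_isPullback (sqQ i) hqs) ((hP _).1 (D.obj i).property)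
    have hcw : ∀ ⦃i j : I⦄ (f : i ⟶ j),
        (D.map f).hom.left.hom ≫ (c.ι.app j).hom.left.hom = (c.ι.app i).hom.left.hom := fun i j f =>
      congrArg (fun k : D.obj i ⟶ c.pt => k.hom.left.hom) (c.w f)
    let D'' : I ⥤ P.FullSubcategory :=
      { obj := fun i => sepObj P hP (hQ i) _ (hQB i)
        map := fun {i j} f => sepHom P (T := sepObj P hP (hQ i) _ (hQB i)) (T' := sepObj P hP (hQ j) _ (hQB j))
          (pullback.lift (pullback.fst q _) (pullback.snd q _ ≫ (D.map f).hom.left.hom)
            (by rw [Category.assoc, hcw f, pullback.condition])) (by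
            show pullback.lift _ _ _ ≫ pullback.snd q _ ≫ (D.obj j).obj.hom.hom = _
            rw [pullback.lift_snd_assoc, Category.assoc, w_hom P (D.map f)]
            rfl)
        map_id := fun i => sep_ext P (by
          show pullback.lift _ _ _ = 𝟙 (pullback q _)
          refine pullback.hom_ext ?_ ?_
          · rw [pullback.lift_fst, Category.id_comp]
          · rw [pullback.lift_snd, Category.id_comp, D.map_id]
            exact Category.comp_id _)
        map_comp := fun {i j k} f f' => sep_ext P (by
          show pullback.lift _ _ _ = pullback.lift _ _ _ ≫ pullback.lift _ _ _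
          refine pullback.hom_ext ?_ ?_
          · simp only [Category.assoc, pullback.lift_fst]
          · simp only [Category.assoc, pullback.lift_snd, pullback.lift_snd_assoc, D.map_comp]
            rfl) }
    let β : D'' ⟶ D :=
      { app := fun i => sepHom P (T := D''.obj i) (pullback.snd q _) rfl
        naturality := fun i j f => sep_ext P (pullback.lift_snd _ _ _) }
    let c'' : Cocone D'' :=
      { pt := KP
        ι :=
          { app := fun i => sepHom P (T := D''.obj i) (T' := KP) (pullback.fst q _) (by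
              show pullback.fst q _ ≫ q ≫ c.pt.obj.hom.hom = _
              rw [pullback.condition_assoc, hcB i]
              rfl)
            naturality := fun i j f => sep_ext P ((pullback.lift_fst _ _ _).trans (Category.comp_id _).symm) } }
    obtain ⟨hc''⟩ := h₄ D'' β c'' (sepHom P (T := KP) q rfl) hqe hqs fun i => sqQ i
    have side : ∀ (i : I) (t : K ⟶ c'.pt.obj.left.obj), t ≫ A = q →
        pullback.fst q (c.ι.app i).hom.left.hom ≫ t ≫ l ≫ w = pullback.snd q (c.ι.app i).hom.left.hom ≫ x i := by
      intro i t ht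
      obtain ⟨z, hz₁, hz₂⟩ : ∃ z : pullback q (c.ι.app i).hom.left.hom ⟶ U i,
          z ≫ (c'.ι.app i).hom.left.hom = pullback.fst q _ ≫ t ∧
            z ≫ pullback.snd w (x i) = pullback.snd q _ := by
        refine ⟨(hca i).lift (pullback.fst q _ ≫ t) (pullback.snd q _) ?_, (hca i).lift_fst _ _ _,
          (hca i).lift_snd _ _ _⟩
        rw [Category.assoc, ht, pullback.condition]
      rw [← reassoc_of% hz₁, reassoc_of% hl i, pullback.condition, reassoc_of% hz₂]
    have agree : pullback.fst A A ≫ l ≫ w = pullback.snd A A ≫ l ≫ w :=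
      eq_of_sepColimit hP c'' hc'' hF (m := pullback.fst A A ≫ l ≫ w) (m' := pullback.snd A A ≫ l ≫ w) fun i =>
        (side i _ rfl).trans (side i _ pullback.condition.symm).symm
    obtain ⟨m, hm⟩ := AlgSpLib.exists_desc A (l ≫ w) fun T b b' e => by
      have h₀ : ∀ {r : K ⟶ c'.pt.obj.left.obj} {y : (yon S).obj T ⟶ c'.pt.obj.left.obj},
          pullback.lift b b' e ≫ r = y → y ≫ l ≫ w = pullback.lift b b' e ≫ r ≫ l ≫ w := by
        intro r y hr
        rw [← hr, Category.assoc]
      rw [h₀ (pullback.lift_fst b b' e), h₀ (pullback.lift_snd b b' e), agree]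
    have hmi : ∀ i, (c.ι.app i).hom.left.hom ≫ m = x i := fun i => by
      haveI := isLocallySurjective_of_etale_surjective (hU i) (D.obj i).obj.left.property (hpe i)
        (map_surjective_of_isPullback (sqU i) (map_surjective_of_repWith hws))
      haveI : Epi (pullback.snd w (x i)) := Sheaf.epi_of_isLocallySurjective _
      rw [← cancel_epi (pullback.snd w (x i)), ← pullback.condition, ← hl i]
      have e : pullback.snd w (x i) ≫ (c.ι.app i).hom.left.hom = (c'.ι.app i).hom.left.hom ≫ A := (hca i).w.symm
      rw [reassoc_of% e, hm]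
      exact (Category.assoc _ _ _).symm
    exact ⟨m, eq_of_sepColimit hP c hc B.property fun i => by
      rw [reassoc_of% hmi i, hxB, hcB i], hmi⟩
  choose m hm₁ hm₂ using fun s : Cocone (D ⋙ P.ι) =>
    hex s.pt (fun i => (s.ι.app i).left.hom)
      (fun i => congrArg (fun k : (D.obj i).obj.left ⟶ B => k.hom) (Over.w (s.ι.app i)))
      fun i j f => congrArg (fun k : (D.obj i).obj ⟶ s.pt => k.left.hom) (s.w f)
  exact ⟨{
    desc := fun s => Over.homMk (ObjectProperty.homMk (m s)) (ObjectProperty.hom_ext _ (hm₁ s))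
    fac := fun s i => Over.OverMorphism.ext (ObjectProperty.hom_ext _ (hm₂ s i))
    uniq := fun s k hk => Over.OverMorphism.ext (ObjectProperty.hom_ext _
      (eq_of_sepColimit hP c hc s.pt.left.property fun i =>
        ((congrArg (fun k : (D.obj i).obj ⟶ s.pt => k.left.hom) (hk i) :
          (c.ι.app i).hom.left.hom ≫ k.left.hom = (s.ι.app i).left.hom)).trans (hm₂ s i).symm)) }⟩

end Groth.Agent.SpPush
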