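import Groth.Agent.S6900
import Groth.Agent.PushFunLib.Main

/-!
# Properties of maps between Ferrand pushouts
-/

set_option autoImplicit false
set_option linter.all false
set_option maxHeartbeats 800000

universe u

open CategoryTheory CategoryTheory.Limits AlgebraicGeometry

namespace Groth.Agent.SpPush

open Groth.Agent.PushLib

variable {R B A' A Q D C' C : Type u} [CommRing R] [CommRing B] [CommRing A'] [CommRing A] [CommRing Q] [CommRing D]
  [CommRing C'] [CommRing C]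

/-- The five properties of a map of fibre squares. -/
theorem props_of_square (S : FibSq R B A' A) (T : FibSq Q D C' C) (φ : R →+* Q) (φB : B →+* D) (φA' : A' →+* C')
    (φA : A →+* C) (hu : T.u.comp φ = φB.comp S.u) (hv : T.v.comp φ = φA'.comp S.v)
    (hq : T.q.comp φB = φA.comp S.q) (hp : T.p.comp φA' = φA.comp S.p)
    (pC : IsPushout (CommRingCat.ofHom φA') (CommRingCat.ofHom S.p) (CommRingCat.ofHom T.p) (CommRingCat.ofHom φA))
    (pD : IsPushout (CommRingCat.ofHom φB) (CommRingCat.ofHom S.q) (CommRingCat.ofHom T.q) (CommRingCat.ofHom φA)) :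
    (φ.FiniteType ↔ φB.FiniteType ∧ φA'.FiniteType) ∧ (φ.Flat ↔ φB.Flat ∧ φA'.Flat) ∧
    (φ.Flat ∧ φ.FinitePresentation ↔ (φB.Flat ∧ φB.FinitePresentation) ∧ (φA'.Flat ∧ φA'.FinitePresentation)) ∧
    (φ.Smooth ↔ φB.Smooth ∧ φA'.Smooth) ∧ (φ.Etale ↔ φB.Etale ∧ φA'.Etale) := by
  algebraize [S.u, S.v, S.q, T.u, T.v, T.q, φ, φB, φA', φA]
  letI : Algebra A' A := S.p.toAlgebra
  letI : Algebra C' C := T.p.toAlgebra
  letI : Algebra R A := (S.q.comp S.u).toAlgebra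
  letI : Algebra Q C := (T.q.comp T.u).toAlgebra
  letI : Algebra R D := (φB.comp S.u).toAlgebra
  letI : Algebra R C' := (φA'.comp S.v).toAlgebra
  letI : Algebra B C := (T.q.comp φB).toAlgebra
  letI : Algebra A' C := (T.p.comp φA').toAlgebra
  haveI : IsScalarTower R B A := IsScalarTower.of_algebraMap_eq' rfl
  haveI : IsScalarTower R A' A := IsScalarTower.of_algebraMap_eq fun x => S.w x
  haveI : IsScalarTower Q D C := IsScalarTower.of_algebraMap_eq' rfl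
  haveI : IsScalarTower Q C' C := IsScalarTower.of_algebraMap_eq fun x => T.w x
  haveI : IsScalarTower R B D := IsScalarTower.of_algebraMap_eq' rfl
  haveI : IsScalarTower R Q D := IsScalarTower.of_algebraMap_eq' hu.symm
  haveI : IsScalarTower R A' C' := IsScalarTower.of_algebraMap_eq' rfl
  haveI : IsScalarTower R Q C' := IsScalarTower.of_algebraMap_eq' hv.symm
  haveI : IsScalarTower B A C := IsScalarTower.of_algebraMap_eq' hq
  haveI : IsScalarTower B D C := IsScalarTower.of_algebraMap_eq' rfl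
  haveI : IsScalarTower A' A C := IsScalarTower.of_algebraMap_eq' hp
  haveI : IsScalarTower A' C' C := IsScalarTower.of_algebraMap_eq' rfl
  have e₁ : Algebra.IsPushout B D A C := CommRingCat.isPushout_iff_isPushout.1 pD
  have e₂ : Algebra.IsPushout A' C' A C := CommRingCat.isPushout_iff_isPushout.1 pC
  have hS : EtMil.IsFibreSquare R B A' A := ⟨S.surj, fun b a h => by
    obtain ⟨x, h1, h2⟩ := S.lift b a h
    exact ⟨x, ⟨h1, h2⟩, fun y hy => S.inj y x (hy.1.trans h1.symm) (hy.2.trans h2.symm)⟩⟩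
  have hT : EtMil.IsFibreSquare Q D C' C := ⟨T.surj, fun b a h => by
    obtain ⟨x, h1, h2⟩ := T.lift b a h
    exact ⟨x, ⟨h1, h2⟩, fun y hy => T.inj y x (hy.1.trans h1.symm) (hy.2.trans h2.symm)⟩⟩
  exact Groth.Agent.S6900.result R B A' A hS Q D C' C hT

variable {X Y Z X' Y' Z' : Scheme.{u}} {i : Z ⟶ X} {j : Z ⟶ Y} {i' : Z' ⟶ X'} {j' : Z' ⟶ Y'}
  [IsClosedImmersion i] [IsClosedImmersion i'] {f : X' ⟶ X} {g : Y' ⟶ Y} {h : Z' ⟶ Z}

/-- The map of pushouts on a pair of charts, with its five properties. -/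
theorem props_chart (hX : IsPullback h i' i f) (hY0 : IsPullback h j' j g)
    (hY : ∀ y : Y, ∃ p : Nice i j, y ∈ p.V) (hY' : ∀ y : Y', ∃ p : Nice i' j', y ∈ p.V)
    (π : Nice.P i' j' ⟶ Nice.P i j) (hπa : Nice.a hY' ≫ π = f ≫ Nice.a hY) (hπb : Nice.b hY' ≫ π = g ≫ Nice.b hY)
    (p : Nice i j) (q : Nice i' j') (hU : q.U ≤ f ⁻¹ᵁ p.U) (hV : q.V ≤ g ⁻¹ᵁ p.V) :
    ∃ φ : p.ring →+* q.ring, q.ι ≫ π = specMap φ ≫ p.ι ∧
    (φ.FiniteType ↔ (g.appLE p.V q.V hV).hom.FiniteType ∧ (f.appLE p.U q.U hU).hom.FiniteType) ∧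
    (φ.Flat ↔ (g.appLE p.V q.V hV).hom.Flat ∧ (f.appLE p.U q.U hU).hom.Flat) ∧
    (φ.Flat ∧ φ.FinitePresentation ↔
      ((g.appLE p.V q.V hV).hom.Flat ∧ (g.appLE p.V q.V hV).hom.FinitePresentation) ∧
      ((f.appLE p.U q.U hU).hom.Flat ∧ (f.appLE p.U q.U hU).hom.FinitePresentation)) ∧
    (φ.Smooth ↔ (g.appLE p.V q.V hV).hom.Smooth ∧ (f.appLE p.U q.U hU).hom.Smooth) ∧
    (φ.Etale ↔ (g.appLE p.V q.V hV).hom.Etale ∧ (f.appLE p.U q.U hU).hom.Etale) := by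
  let gU := f.appLE p.U q.U hU
  let gV := g.appLE p.V q.V hV
  have hZle : i' ⁻¹ᵁ q.U ≤ h ⁻¹ᵁ (i ⁻¹ᵁ p.U) := by
    rw [← Scheme.Hom.comp_preimage, hX.w, Scheme.Hom.comp_preimage]
    exact i'.preimage_mono hU
  let gZ := h.appLE (i ⁻¹ᵁ p.U) (i' ⁻¹ᵁ q.U) hZle
  have eq1 : gV ≫ q.q = p.q ≫ gZ := by
    simp only [gV, gZ, Nice.q, Scheme.Hom.appLE_comp_appLE, hY0.w]
  have eq2 : gU ≫ q.p' = p.p' ≫ gZ := by
    simp only [gU, gZ, Nice.p', Scheme.Hom.app_eq_appLE, Scheme.Hom.appLE_comp_appLE, hX.w]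
  let φ : p.ring →+* q.ring :=
    ((gV.hom.comp p.sq.u).prod (gU.hom.comp p.sq.v)).codRestrict _ fun x => by
      show q.q.hom (gV.hom (p.sq.u x)) = q.p'.hom (gU.hom (p.sq.v x))
      rw [← CommRingCat.comp_apply, ← CommRingCat.comp_apply, eq1, eq2, CommRingCat.comp_apply,
        CommRingCat.comp_apply]
      exact congrArg gZ.hom (p.sq.w x)
  have hπ : q.ι ≫ π = specMap φ ≫ p.ι := by
    refine q.sq.hom_ext ?_ ?_
    · rw [← Category.assoc, ← Category.assoc, ← Nice.fromSpec_b hY' q, Category.assoc, hπb, ← Category.assoc,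
        ← IsAffineOpen.SpecMap_appLE_fromSpec g p.hV q.hV hV, Category.assoc, Nice.fromSpec_b hY p,
        ← Category.assoc, ← Spec.map_comp, ← Spec.map_comp]
      rfl
    · rw [← Category.assoc, ← Category.assoc, ← Nice.fromSpec_a hY' q, Category.assoc, hπa, ← Category.assoc,
        ← IsAffineOpen.SpecMap_appLE_fromSpec f p.hU q.hU hU, Category.assoc, Nice.fromSpec_a hY p,
        ← Category.assoc, ← Spec.map_comp, ← Spec.map_comp]
      rfl
  have pC : IsPushout gU p.p' q.p' gZ := by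
    have := PushFun.isPushout_appLE hX.flip p.hU q.hU hU (p.hU.preimage i) rfl (q.hU.preimage i') rfl hZle
    simpa only [Nice.p', Scheme.Hom.app_eq_appLE] using this
  have pD : IsPushout gV p.q q.q gZ :=
    PushFun.isPushout_appLE hY0.flip p.hV q.hV hV (p.hU.preimage i) p.heq (q.hU.preimage i') q.heq hZle
  exact ⟨φ, hπ, props_of_square p.sq q.sq φ gV.hom gU.hom gZ.hom rfl rfl
    (congrArg CommRingCat.Hom.hom eq1) (congrArg CommRingCat.Hom.hom eq2) pC pD⟩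

theorem exists_charts (hX : IsPullback h i' i f) (hY0 : IsPullback h j' j g)
    (hY : ∀ y : Y, ∃ p : Nice i j, y ∈ p.V) (hY' : ∀ y : Y', ∃ p : Nice i' j', y ∈ p.V)
    (π : Nice.P i' j' ⟶ Nice.P i j) (hπa : Nice.a hY' ≫ π = f ≫ Nice.a hY) (hπb : Nice.b hY' ≫ π = g ≫ Nice.b hY)
    (w : Nice.P i' j') :
    ∃ (p : Nice i j) (r : Nice i' j'), r.U ≤ f ⁻¹ᵁ p.U ∧ r.V ≤ g ⁻¹ᵁ p.V ∧ w ∈ Set.range r.ι := by
  obtain ⟨p, z, hz⟩ := (Nice.cover (i := i) (j := j)).exists_eq (π w)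
  obtain ⟨q, t, rfl⟩ := (Nice.cover (i := i') (j := j')).exists_eq w
  have hpre : i' ⁻¹ᵁ (f ⁻¹ᵁ p.U) = j' ⁻¹ᵁ (g ⁻¹ᵁ p.V) := by
    rw [← Scheme.Hom.comp_preimage, ← Scheme.Hom.comp_preimage, ← hX.w, ← hY0.w, Scheme.Hom.comp_preimage,
      Scheme.Hom.comp_preimage, p.heq]
  have hmem : t ∈ q.W (f ⁻¹ᵁ p.U) (g ⁻¹ᵁ p.V) := by
    rcases q.sq.exists_prime_over t with ⟨R, hR⟩ | ⟨Q, -, hQ, -, -⟩
    · refine Or.inl ⟨R, ?_, hR⟩
      show g (q.hV.fromSpec R) ∈ p.V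
      rw [← Nice.preimage_b hY p]
      show Nice.b hY (g (q.hV.fromSpec R)) ∈ p.ι.opensRange
      rw [← Scheme.Hom.comp_apply g, ← hπb, Scheme.Hom.comp_apply]
      refine ⟨z, hz.trans (congrArg π ?_)⟩
      rw [← Scheme.Hom.comp_apply, Nice.fromSpec_b, Scheme.Hom.comp_apply]
      exact (congrArg q.ι hR).symm
    · refine Or.inr ⟨Q, ?_, hQ⟩
      show f (q.hU.fromSpec Q) ∈ p.U
      rw [← Nice.preimage_a hY p]
      show Nice.a hY (f (q.hU.fromSpec Q)) ∈ p.ι.opensRange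
      rw [← Scheme.Hom.comp_apply f, ← hπa, Scheme.Hom.comp_apply]
      refine ⟨z, hz.trans (congrArg π ?_)⟩
      rw [← Scheme.Hom.comp_apply, Nice.fromSpec_a, Scheme.Hom.comp_apply]
      exact (congrArg q.ι hQ).symm
  obtain ⟨r, hrq, hrU, hrV, t', ht'⟩ := q.exists_le _ _ hpre t hmem
  refine ⟨p, r, hrU, hrV, t', ?_⟩
  show r.ι t' = q.ι t
  rw [← Nice.res_ι hrq, Scheme.Hom.comp_apply]
  exact congrArg q.ι ht'

theorem comp_openImmersion_iff (Q : MorphismProperty Scheme.{u}) [Q.IsStableUnderBaseChange]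
    [Q.IsStableUnderComposition] (hQ : ∀ {A B : Scheme.{u}} (m : A ⟶ B) [IsOpenImmersion m], Q m)
    {A B C : Scheme.{u}} (m : A ⟶ B) (e : B ⟶ C) [IsOpenImmersion e] : Q (m ≫ e) ↔ Q m := by
  refine ⟨fun h => ?_, fun h => Q.comp_mem _ _ h (hQ e)⟩
  have sq : IsPullback (𝟙 A) m (m ≫ e) e := IsPullback.of_horiz_isIso_mono ⟨by simp⟩
  exact MorphismProperty.of_isPullback sq h

/-- Local nature of a property of maps between pushouts. -/
theorem iff_of_charts (Q : MorphismProperty Scheme.{u}) [IsZariskiLocalAtSource Q] [Q.IsStableUnderBaseChange]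
    [Q.IsStableUnderComposition] (hQ : ∀ {A B : Scheme.{u}} (m : A ⟶ B) [IsOpenImmersion m], Q m)
    (q' : ∀ {R S : Type u} [CommRing R] [CommRing S], (R →+* S) → Prop)
    (hq' : ∀ {R S : Type u} [CommRing R] [CommRing S] (φ : R →+* S), Q (specMap φ) ↔ q' φ)
    (hX : IsPullback h i' i f) (hY0 : IsPullback h j' j g)
    (hY : ∀ y : Y, ∃ p : Nice i j, y ∈ p.V) (hY' : ∀ y : Y', ∃ p : Nice i' j', y ∈ p.V)
    (π : Nice.P i' j' ⟶ Nice.P i j) (hπa : Nice.a hY' ≫ π = f ≫ Nice.a hY) (hπb : Nice.b hY' ≫ π = g ≫ Nice.b hY)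
    (hsel : ∀ (p : Nice i j) (q : Nice i' j') (hU : q.U ≤ f ⁻¹ᵁ p.U) (hV : q.V ≤ g ⁻¹ᵁ p.V),
      ∃ φ : p.ring →+* q.ring, q.ι ≫ π = specMap φ ≫ p.ι ∧
        (q' φ ↔ q' (g.appLE p.V q.V hV).hom ∧ q' (f.appLE p.U q.U hU).hom)) :
    Q π ↔ Q g ∧ Q f := by
  choose pw rw' hU hV hw using exists_charts hX hY0 hY hY' π hπa hπb
  have hglobal : ∀ {A' A : Scheme.{u}} (m : A' ⟶ A) (V : A.Opens) (hV : IsAffineOpen V) (U : A'.Opens)
      (hU : IsAffineOpen U) (e : U ≤ m ⁻¹ᵁ V), Q (hU.fromSpec ≫ m) ↔ q' (m.appLE V U e).hom := by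
    intro A' A m V hV U hU e
    rw [← IsAffineOpen.SpecMap_appLE_fromSpec m hV hU e, comp_openImmersion_iff Q hQ]
    exact hq' _
  constructor
  · intro hπ
    have hboth : ∀ (p : Nice i j) (q : Nice i' j') (hU : q.U ≤ f ⁻¹ᵁ p.U) (hV : q.V ≤ g ⁻¹ᵁ p.V),
        Q (q.hV.fromSpec ≫ g) ∧ Q (q.hU.fromSpec ≫ f) := by
      intro p q hU hV
      obtain ⟨φ, hφ, hiff⟩ := hsel p q hU hV
      have h1 : Q (specMap φ ≫ p.ι) := hφ ▸ Q.comp_mem _ _ (hQ q.ι) hπ
      have h2 := hiff.1 ((hq' φ).1 ((comp_openImmersion_iff Q hQ _ _).1 h1))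
      exact ⟨(hglobal g p.V p.hV q.V q.hV hV).2 h2.1, (hglobal f p.U p.hU q.U q.hU hU).2 h2.2⟩
    constructor
    · have hm : ∀ y, y ∈ (rw' (Nice.b hY' y)).V := fun y => by
        rw [← Nice.preimage_b hY' (rw' (Nice.b hY' y))]
        exact hw (Nice.b hY' y)
      let 𝒱 : Y'.OpenCover := Scheme.Cover.mkOfCovers Y' (fun y => Spec Γ(Y', (rw' (Nice.b hY' y)).V))
        (fun y => (rw' (Nice.b hY' y)).hV.fromSpec) (fun y => ⟨y, by
          rw [← Set.mem_range, (rw' (Nice.b hY' y)).hV.range_fromSpec]; exact hm y⟩) (fun y => inferInstance)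
      exact IsZariskiLocalAtSource.of_openCover 𝒱 fun y => (hboth _ _ (hU _) (hV _)).1
    · have hm : ∀ x, x ∈ (rw' (Nice.a hY' x)).U := fun x => by
        rw [← Nice.preimage_a hY' (rw' (Nice.a hY' x))]
        exact hw (Nice.a hY' x)
      let 𝒱 : X'.OpenCover := Scheme.Cover.mkOfCovers X' (fun x => Spec Γ(X', (rw' (Nice.a hY' x)).U))
        (fun x => (rw' (Nice.a hY' x)).hU.fromSpec) (fun x => ⟨x, by
          rw [← Set.mem_range, (rw' (Nice.a hY' x)).hU.range_fromSpec]; exact hm x⟩) (fun x => inferInstance)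
      exact IsZariskiLocalAtSource.of_openCover 𝒱 fun x => (hboth _ _ (hU _) (hV _)).2
  · rintro ⟨hg, hf⟩
    let 𝒰 : (Nice.P i' j').OpenCover := Scheme.Cover.mkOfCovers _ (fun w => Spec (.of (rw' w).ring))
      (fun w => (rw' w).ι) (fun w => ⟨w, hw w⟩) (fun w => inferInstance)
    refine IsZariskiLocalAtSource.of_openCover 𝒰 fun w => ?_
    obtain ⟨φ, hφ, hiff⟩ := hsel (pw w) (rw' w) (hU w) (hV w)
    show Q ((rw' w).ι ≫ π)
    rw [hφ, comp_openImmersion_iff Q hQ]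
    exact (hq' φ).2 (hiff.2
      ⟨(hglobal g (pw w).V (pw w).hV (rw' w).V (rw' w).hV (hV w)).1 (Q.comp_mem _ _ (hQ _) hg),
       (hglobal f (pw w).U (pw w).hU (rw' w).U (rw' w).hU (hU w)).1 (Q.comp_mem _ _ (hQ _) hf)⟩)

instance : IsZariskiLocalAtSource (@Flat ⊓ @LocallyOfFinitePresentation : MorphismProperty Scheme.{u}) :=
  IsZariskiLocalAtSource.mk' (fun f U h => ⟨IsZariskiLocalAtSource.comp h.1 U.ι, IsZariskiLocalAtSource.comp h.2 U.ι⟩)
    (by
      intro X Y f ι U hU h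
      exact ⟨IsZariskiLocalAtSource.of_iSup_eq_top U hU fun i => (h i).1,
        IsZariskiLocalAtSource.of_iSup_eq_top U hU fun i => (h i).2⟩)

/-- The five properties of the map of Ferrand pushouts. -/
theorem props_fun (hX : IsPullback h i' i f) (hY0 : IsPullback h j' j g)
    (hY : ∀ y : Y, ∃ p : Nice i j, y ∈ p.V) (hY' : ∀ y : Y', ∃ p : Nice i' j', y ∈ p.V)
    (π : Nice.P i' j' ⟶ Nice.P i j) (hπa : Nice.a hY' ≫ π = f ≫ Nice.a hY) (hπb : Nice.b hY' ≫ π = g ≫ Nice.b hY) :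
    (LocallyOfFiniteType π ↔ LocallyOfFiniteType g ∧ LocallyOfFiniteType f) ∧
    (Flat π ↔ Flat g ∧ Flat f) ∧
    ((Flat π ∧ LocallyOfFinitePresentation π) ↔
      (Flat g ∧ LocallyOfFinitePresentation g) ∧ (Flat f ∧ LocallyOfFinitePresentation f)) ∧
    (Smooth π ↔ Smooth g ∧ Smooth f) ∧ (Etale π ↔ Etale g ∧ Etale f) := by
  have hc := props_chart hX hY0 hY hY' π hπa hπb
  refine ⟨?_, ?_, ?_, ?_, ?_⟩
  · exact iff_of_charts @LocallyOfFiniteType (fun m _ => inferInstance) (fun φ => φ.FiniteType)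
      (fun φ => HasRingHomProperty.Spec_iff (P := @LocallyOfFiniteType)) hX hY0 hY hY' π hπa hπb
      fun p q hU hV => let ⟨φ, hφ, h, _⟩ := hc p q hU hV; ⟨φ, hφ, h⟩
  · exact iff_of_charts @Flat (fun m _ => inferInstance) (fun φ => φ.Flat)
      (fun φ => HasRingHomProperty.Spec_iff (P := @Flat)) hX hY0 hY hY' π hπa hπb
      fun p q hU hV => let ⟨φ, hφ, _, h, _⟩ := hc p q hU hV; ⟨φ, hφ, h⟩
  · exact iff_of_charts (@Flat ⊓ @LocallyOfFinitePresentation) (fun m _ => ⟨inferInstance, inferInstance⟩)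
      (fun φ => φ.Flat ∧ φ.FinitePresentation)
      (fun φ => and_congr (HasRingHomProperty.Spec_iff (P := @Flat))
        (HasRingHomProperty.Spec_iff (P := @LocallyOfFinitePresentation))) hX hY0 hY hY' π hπa hπb
      fun p q hU hV => let ⟨φ, hφ, _, _, h, _⟩ := hc p q hU hV; ⟨φ, hφ, h⟩
  · exact iff_of_charts @Smooth (fun m _ => inferInstance) (fun φ => φ.Smooth)
      (fun φ => HasRingHomProperty.Spec_iff (P := @Smooth)) hX hY0 hY hY' π hπa hπb
      fun p q hU hV => let ⟨φ, hφ, _, _, _, h, _⟩ := hc p q hU hV; ⟨φ, hφ, h⟩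
  · exact iff_of_charts @Etale (fun m _ => inferInstance) (fun φ => φ.Etale)
      (fun φ => HasRingHomProperty.Spec_iff (P := @Etale)) hX hY0 hY hY' π hπa hπb
      fun p q hU hV => let ⟨φ, hφ, _, _, _, _, h⟩ := hc p q hU hV; ⟨φ, hφ, h⟩

/-- The five properties for arbitrary pushouts. -/
theorem props_pushout (hX : IsPullback h i' i f) (hY0 : IsPullback h j' j g)
    (hY : ∀ y : Y, ∃ p : Nice i j, y ∈ p.V) (hY' : ∀ y : Y', ∃ p : Nice i' j', y ∈ p.V)
    {P P' : Scheme.{u}} {a : X ⟶ P} {b : Y ⟶ P} (hP : IsPushout i j a b) {a' : X' ⟶ P'} {b' : Y' ⟶ P'}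
    (hP' : IsPushout i' j' a' b') (k : P' ⟶ P) (ha : a' ≫ k = f ≫ a) (hb : b' ≫ k = g ≫ b) :
    (LocallyOfFiniteType k ↔ LocallyOfFiniteType g ∧ LocallyOfFiniteType f) ∧
    (Flat k ↔ Flat g ∧ Flat f) ∧
    ((Flat k ∧ LocallyOfFinitePresentation k) ↔
      (Flat g ∧ LocallyOfFinitePresentation g) ∧ (Flat f ∧ LocallyOfFinitePresentation f)) ∧
    (Smooth k ↔ Smooth g ∧ Smooth f) ∧ (Etale k ↔ Etale g ∧ Etale f) := by
  let e := Nice.iso hY hP
  let e' := Nice.iso hY' hP'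
  let π := e'.hom ≫ k ≫ e.inv
  have hπa : Nice.a hY' ≫ π = f ≫ Nice.a hY := by
    simp only [π, e']
    rw [reassoc_of% (Nice.a_iso hY' hP'), reassoc_of% ha, ← Nice.a_iso hY hP, Category.assoc, Iso.hom_inv_id,
      Category.comp_id]
  have hπb : Nice.b hY' ≫ π = g ≫ Nice.b hY := by
    simp only [π, e']
    rw [reassoc_of% (Nice.b_iso hY' hP'), reassoc_of% hb, ← Nice.b_iso hY hP, Category.assoc, Iso.hom_inv_id,
      Category.comp_id]
  have key : ∀ (Q : MorphismProperty Scheme.{u}) [Q.RespectsIso], Q π ↔ Q k := fun Q _ => by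
    simp only [π]
    rw [Q.cancel_left_of_respectsIso, Q.cancel_right_of_respectsIso]
  obtain ⟨h1, h2, h3, h4, h5⟩ := props_fun hX hY0 hY hY' π hπa hπb
  rw [key @LocallyOfFiniteType] at h1
  rw [key @Flat] at h2 h3
  rw [key @LocallyOfFinitePresentation] at h3
  rw [key @Smooth] at h4
  rw [key @Etale] at h5
  exact ⟨h1, h2, h3, h4, h5⟩

end Groth.Agent.SpPush
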