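import Groth.Agent.SpPushLib.Integral
import Groth.Agent.AlgSpRegLib.CutBy
import Groth.Agent.S9383

/-!
# Scheme theoretic unions of closed subspaces are pushouts
-/

set_option autoImplicit false
set_option linter.all false
set_option backward.isDefEq.respectTransparency false
set_option backward.isDefEq.respectTransparency.types false
set_option maxHeartbeats 1000000

noncomputable section

universe u

open CategoryTheory CategoryTheory.Limits AlgebraicGeometry AlgSp AlgSpLib AlgSpRegLib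

namespace Groth.Agent.SpPush

open Groth.Agent

variable {S : Scheme.{u}}

/-- A square of spaces which pulls back to a pushout of schemes along closed immersions on a chart of the corner has
the universal property of a pushout. -/
theorem existsUnique_desc_of_chart {Y Z W V : Sp S} {aY : Y ⟶ W} {bZ : Z ⟶ W} {cY : V ⟶ Y} {cZ : V ⟶ Z}
    {C CY CZ CV : Over S} {c : (yon S).obj C ⟶ W} (hc : RepWith @Etale c) (hcs : RepWith @Surjective c)
    {lY : (yon S).obj CY ⟶ Y} {a : CY ⟶ C} (sY : IsPullback lY ((yon S).map a) aY c)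
    {lZ : (yon S).obj CZ ⟶ Z} {b : CZ ⟶ C} (sZ : IsPullback lZ ((yon S).map b) bZ c)
    {i : CV ⟶ CY} {j : CV ⟶ CZ} [IsClosedImmersion i.left] [IsClosedImmersion j.left] (hpo : IsPushout i j a b)
    {lV : (yon S).obj CV ⟶ V} (hi : lV ≫ cY = (yon S).map i ≫ lY) (hj : lV ≫ cZ = (yon S).map j ≫ lZ)
    (F : Space S) (u : Y ⟶ F.obj) (v : Z ⟶ F.obj) (huv : cY ≫ u = cZ ≫ v) :
    ∃! m : W ⟶ F.obj, aY ≫ m = u ∧ bZ ≫ m = v := by
  have hn : ∀ y : CZ.left, ∃ p : PushLib.Nice i.left j.left, y ∈ p.V :=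
    fun y => PushLib.exists_nice_of_closedImmersion i.left j.left y
  have huvC : (yon S).map i ≫ lY ≫ u = (yon S).map j ≫ lZ ≫ v := by
    rw [← reassoc_of% hi, ← reassoc_of% hj, huv]
  let hsp := isPushout_of_integral hn hpo
  let mC : (yon S).obj C ⟶ F.obj := (hsp.desc (ObjectProperty.homMk (lY ≫ u) : (ofScheme S).obj _ ⟶ F)
    (ObjectProperty.homMk (lZ ≫ v)) (ObjectProperty.hom_ext _ huvC)).hom
  have hm₁ : (yon S).map a ≫ mC = lY ≫ u :=
    congrArg (fun k : (ofScheme S).obj CY ⟶ F => k.hom) (hsp.inl_desc _ _ _)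
  have hm₂ : (yon S).map b ≫ mC = lZ ≫ v :=
    congrArg (fun k : (ofScheme S).obj CZ ⟶ F => k.hom) (hsp.inr_desc _ _ _)
  obtain ⟨R, r₁, r₂, sR⟩ := exists_isPullback_yon c c hc.rep
  haveI : Etale r₁.left := etale_left (repWith_of_isPullback sR.flip hc)
  have tA := IsPullback.of_hasPullback a r₁
  have tB := IsPullback.of_hasPullback b r₁
  have tI := IsPullback.of_hasPullback i (pullback.fst a r₁)
  have hw : (pullback.fst i (pullback.fst a r₁) ≫ j) ≫ b =
      (pullback.snd i (pullback.fst a r₁) ≫ pullback.snd a r₁) ≫ r₁ := by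
    rw [Category.assoc, ← hpo.w, reassoc_of% tI.w, tA.w, Category.assoc]
  have hpoR := isPushout_of_flat hn hpo r₁ tA tB tI (tB.lift _ _ hw) (tB.lift_fst _ _ _) (tB.lift_snd _ _ _)
  have agree : (yon S).map r₁ ≫ mC = (yon S).map r₂ ≫ mC := by
    refine eq_of_pushout hpoR F.property ?_ ?_
    · obtain ⟨η, hη⟩ := (yon S).map_surjective (sY.lift ((yon S).map (pullback.fst a r₁) ≫ lY)
        ((yon S).map (pullback.snd a r₁ ≫ r₂)) (by
          rw [Category.assoc, sY.w, ← (yon S).map_comp_assoc, tA.w, (yon S).map_comp_assoc, sR.w,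
            ← (yon S).map_comp_assoc]))
      have e₂ : η ≫ a = pullback.snd a r₁ ≫ r₂ := (yon S).map_injective (by
        rw [(yon S).map_comp η, hη, sY.lift_snd])
      rw [← (yon S).map_comp_assoc, ← tA.w, ← (yon S).map_comp_assoc, ← e₂, (yon S).map_comp_assoc,
        (yon S).map_comp_assoc, hm₁, hη, sY.lift_fst_assoc, Category.assoc]
    · obtain ⟨η, hη⟩ := (yon S).map_surjective (sZ.lift ((yon S).map (pullback.fst b r₁) ≫ lZ)
        ((yon S).map (pullback.snd b r₁ ≫ r₂)) (by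
          rw [Category.assoc, sZ.w, ← (yon S).map_comp_assoc, tB.w, (yon S).map_comp_assoc, sR.w,
            ← (yon S).map_comp_assoc]))
      have e₂ : η ≫ b = pullback.snd b r₁ ≫ r₂ := (yon S).map_injective (by
        rw [(yon S).map_comp η, hη, sZ.lift_snd])
      rw [← (yon S).map_comp_assoc, ← tB.w, ← (yon S).map_comp_assoc, ← e₂, (yon S).map_comp_assoc,
        (yon S).map_comp_assoc, hm₂, hη, sZ.lift_fst_assoc, Category.assoc]
  obtain ⟨m, hm⟩ := exists_desc_of_atlas hc hcs mC fun T g₁ g₂ e => by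
    obtain ⟨r, hr⟩ := (yon S).map_surjective (sR.lift _ _ e)
    have e₁ : (yon S).map r ≫ (yon S).map r₁ = (yon S).map g₁ := by rw [hr, sR.lift_fst]
    have e₂ : (yon S).map r ≫ (yon S).map r₂ = (yon S).map g₂ := by rw [hr, sR.lift_snd]
    rw [← e₁, ← e₂, Category.assoc, Category.assoc, agree]
  have hlY := repWith_of_isPullback sY.flip hc
  have hlYs := repWith_of_isPullback sY.flip hcs
  have hlZ := repWith_of_isPullback sZ.flip hc
  have hlZs := repWith_of_isPullback sZ.flip hcs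
  refine ⟨m, ⟨hom_ext_of_atlas hlY hlYs ?_, hom_ext_of_atlas hlZ hlZs ?_⟩, fun m' hm' => ?_⟩
  · rw [reassoc_of% sY.w, hm, hm₁]
  · rw [reassoc_of% sZ.w, hm, hm₂]
  · obtain ⟨h₁, h₂⟩ := hm'
    refine hom_ext_of_atlas hc hcs (eq_of_pushout hpo F.property ?_ ?_)
    · rw [← reassoc_of% sY.w, h₁, hm, hm₁]
    · rw [← reassoc_of% sZ.w, h₂, hm, hm₂]

/-- The ideal of a closed subspace on a chart has the values of the defining ideal sheaf. -/
theorem ker_chart_top {X : Sp S} {I : IdealEt X} {Z : Sp S} {i : Z ⟶ X} (hi : IsCutOutBy I i)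
    {V W : Over S} {φ : (yon S).obj V ⟶ X} (hφ : RepWith @Etale φ) {fst : (yon S).obj W ⟶ Z} {s : W ⟶ V}
    (sq : IsPullback fst ((yon S).map s) i φ) (U : V.left.affineOpens) :
    haveI : IsAffine U.1.toScheme := U.2
    (s.left.ker.comap U.1.ι).ideal ⟨⊤, isAffineOpen_top U.1.toScheme⟩ =
      I.ideal (openObj φ hφ U.1) (isAffine_openObj φ hφ U) := by
  obtain ⟨hi', rfl⟩ := hi
  let E := openObj φ hφ U.1
  haveI : IsAffine E.obj.left.left := U.2
  haveI : IsClosedImmersion (EtOver.bcπ hi'.1 E).left := hi'.property _ _ _ (EtOver.isPullback_bcObj hi'.1 E)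
  haveI : IsClosedImmersion s.left := hi'.property _ _ _ sq
  have hJ := isIdealOn_ker_of_isPullback hi' sq
  have hJE := isIdealOn_ker_of_isPullback hi' (EtOver.isPullback_bcObj hi'.1 E)
  let j : E.obj.left ⟶ V := Over.homMk U.1.ι rfl
  have e := IsIdealOn.comap_eq hJ hJE j (𝟙 _) (by
    rw [CategoryTheory.Functor.map_id, Category.id_comp]; rfl)
  rw [show (𝟙 E.obj.left : _).left = 𝟙 _ from rfl, Scheme.IdealSheafData.comap_id] at e
  have e' : s.left.ker.comap U.1.ι = (EtOver.bcπ hi'.1 E).left.ker := e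
  rw [e']
  exact ideal_ker_top _

/-- Scheme theoretic unions are pushouts. -/
theorem isPushout_union {X Y Z W V : Space S} {iY : Y ⟶ X} {iZ : Z ⟶ X} {w : W ⟶ X} {v : V ⟶ X}
    {I J K : IdealEt X.obj} (hK : ∀ (E : EtOver X.obj) (hE : IsAffine E.obj.left.left),
      K.ideal E hE = I.ideal E hE ⊓ J.ideal E hE)
    (hY : IsCutOutBy I iY.hom) (hZ : IsCutOutBy J iZ.hom) (hW : IsCutOutBy K w.hom) (hV : IsCutOutBy (I ⊔ J) v.hom)
    {a : Y ⟶ W} {b : Z ⟶ W} {c : V ⟶ Y} {d : V ⟶ Z} (ha : a ≫ w = iY) (hb : b ≫ w = iZ) (hc : c ≫ iY = v)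
    (hd : d ≫ iZ = v) :
    RepWith @IsClosedImmersion a.hom ∧ RepWith @IsClosedImmersion b.hom ∧ IsPushout c d a b := by
  have ea : a.hom ≫ w.hom = iY.hom := congrArg (fun k : Y ⟶ X => k.hom) ha
  have eb : b.hom ≫ w.hom = iZ.hom := congrArg (fun k : Z ⟶ X => k.hom) hb
  have ec : c.hom ≫ iY.hom = v.hom := congrArg (fun k : V ⟶ X => k.hom) hc
  have ed : d.hom ≫ iZ.hom = v.hom := congrArg (fun k : V ⟶ X => k.hom) hd
  obtain ⟨hY', hYI⟩ := id hY
  obtain ⟨hZ', hZJ⟩ := id hZ
  obtain ⟨hW', hWK⟩ := id hW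
  obtain ⟨hV', hVK⟩ := id hV
  haveI : Mono w.hom := mono_of_repWith (fun g (_ : IsClosedImmersion g) => inferInstance) hW'
  haveI : Mono iY.hom := mono_of_repWith (fun g (_ : IsClosedImmersion g) => inferInstance) hY'
  haveI : Mono iZ.hom := mono_of_repWith (fun g (_ : IsClosedImmersion g) => inferInstance) hZ'
  have hac : IsPullback (𝟙 Y.obj) a.hom iY.hom w.hom := IsPullback.of_horiz_isIso_mono ⟨by simp [ea]⟩
  have hbc : IsPullback (𝟙 Z.obj) b.hom iZ.hom w.hom := IsPullback.of_horiz_isIso_mono ⟨by simp [eb]⟩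
  refine ⟨repWith_of_isPullback hac hY', repWith_of_isPullback hbc hZ', ?_⟩
  obtain ⟨C, φ, hφ, hφs⟩ := X.property.atlas
  obtain ⟨CW, lW, sW, qW⟩ : ∃ (T : Over S) (l : (yon S).obj T ⟶ W.obj) (s : T ⟶ C),
      IsPullback l ((yon S).map s) w.hom φ := ⟨_, _, _, hW'.rep.isPullback φ⟩
  obtain ⟨CY, lY, sY, qY⟩ : ∃ (T : Over S) (l : (yon S).obj T ⟶ Y.obj) (s : T ⟶ C),
      IsPullback l ((yon S).map s) iY.hom φ := ⟨_, _, _, hY'.rep.isPullback φ⟩
  obtain ⟨CZ, lZ, sZ, qZ⟩ : ∃ (T : Over S) (l : (yon S).obj T ⟶ Z.obj) (s : T ⟶ C),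
      IsPullback l ((yon S).map s) iZ.hom φ := ⟨_, _, _, hZ'.rep.isPullback φ⟩
  obtain ⟨CV, lV, sV, qV⟩ : ∃ (T : Over S) (l : (yon S).obj T ⟶ V.obj) (s : T ⟶ C),
      IsPullback l ((yon S).map s) v.hom φ := ⟨_, _, _, hV'.rep.isPullback φ⟩
  haveI : IsClosedImmersion sW.left := hW'.property _ _ _ qW
  haveI : IsClosedImmersion sY.left := hY'.property _ _ _ qY
  haveI : IsClosedImmersion sZ.left := hZ'.property _ _ _ qZ
  haveI : IsClosedImmersion sV.left := hV'.property _ _ _ qV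
  obtain ⟨a', ha'⟩ := (yon S).map_surjective (qW.lift (lY ≫ a.hom) ((yon S).map sY)
    (by rw [Category.assoc, ea, qY.w]))
  obtain ⟨b', hb'⟩ := (yon S).map_surjective (qW.lift (lZ ≫ b.hom) ((yon S).map sZ)
    (by rw [Category.assoc, eb, qZ.w]))
  obtain ⟨i, hi⟩ := (yon S).map_surjective (qY.lift (lV ≫ c.hom) ((yon S).map sV)
    (by rw [Category.assoc, ec, qV.w]))
  obtain ⟨j, hj⟩ := (yon S).map_surjective (qZ.lift (lV ≫ d.hom) ((yon S).map sV)
    (by rw [Category.assoc, ed, qV.w]))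
  have a₂ : a' ≫ sW = sY := (yon S).map_injective (by rw [Functor.map_comp, ha', qW.lift_snd])
  have b₂ : b' ≫ sW = sZ := (yon S).map_injective (by rw [Functor.map_comp, hb', qW.lift_snd])
  have i₂ : i ≫ sY = sV := (yon S).map_injective (by rw [Functor.map_comp, hi, qY.lift_snd])
  have j₂ : j ≫ sZ = sV := (yon S).map_injective (by rw [Functor.map_comp, hj, qZ.lift_snd])
  have fa : a'.left ≫ sW.left = sY.left := by rw [← Over.comp_left, a₂]
  have fb : b'.left ≫ sW.left = sZ.left := by rw [← Over.comp_left, b₂]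
  have fi : i.left ≫ sY.left = sV.left := by rw [← Over.comp_left, i₂]
  have fj : j.left ≫ sZ.left = sV.left := by rw [← Over.comp_left, j₂]
  haveI : IsClosedImmersion a'.left := by
    have : IsClosedImmersion (a'.left ≫ sW.left) := by rw [fa]; infer_instance
    exact IsClosedImmersion.of_comp _ sW.left
  haveI : IsClosedImmersion b'.left := by
    have : IsClosedImmersion (b'.left ≫ sW.left) := by rw [fb]; infer_instance
    exact IsClosedImmersion.of_comp _ sW.left
  haveI : IsClosedImmersion i.left := by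
    have : IsClosedImmersion (i.left ≫ sY.left) := by rw [fi]; infer_instance
    exact IsClosedImmersion.of_comp _ sY.left
  haveI : IsClosedImmersion j.left := by
    have : IsClosedImmersion (j.left ≫ sZ.left) := by rw [fj]; infer_instance
    exact IsClosedImmersion.of_comp _ sZ.left
  have hw' : i.left ≫ a'.left = j.left ≫ b'.left := by
    rw [← cancel_mono sW.left, Category.assoc, Category.assoc, fa, fb, fi, fj]
  have hval : ∀ (U : C.left.affineOpens),
      sW.left.ker.ideal U = sY.left.ker.ideal U ⊓ sZ.left.ker.ideal U ∧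
      sV.left.ker.ideal U = sY.left.ker.ideal U ⊔ sZ.left.ker.ideal U := fun U => by
    haveI : IsAffine U.1.toScheme := U.2
    have kY := ker_chart_top hY hφ qY U
    have kZ := ker_chart_top hZ hφ qZ U
    have kW := ker_chart_top hW hφ qW U
    have kV := ker_chart_top hV hφ qV U
    rw [ChevLib.ideal_comap_openImmersion_top _ U.1.ι U (by simp)] at kY kZ kW kV
    have hb := bijective_opensι_appLE U.1
    have inv : ∀ A : Ideal Γ(C.left, U.1),
        Ideal.comap (U.1.ι.appLE U.1 ⊤ (by simp)).hom (Ideal.map (U.1.ι.appLE U.1 ⊤ (by simp)).hom A) = A :=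
      fun A => Ideal.comap_map_of_bijective _ hb
    constructor
    · rw [← inv (sW.left.ker.ideal U), kW, hK, ← kY, ← kZ, Ideal.comap_inf, inv, inv]
    · rw [← inv (sV.left.ker.ideal U), kV, IdealEt.sup_ideal, ← kY, ← kZ, ← Ideal.map_sup, inv]
  have hpoS : IsPushout i.left j.left a'.left b'.left := by
    refine Groth.Agent.S9383.isPushout_union _ _ _ _ sW.left hw' sY.left.ker sZ.left.ker ?_ ?_ ?_ ?_
    · rw [fa]
    · rw [fb]
    · rw [fa, fi]
      exact Scheme.IdealSheafData.ext (funext fun U => (hval U).2)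
    · exact Scheme.IdealSheafData.ext (funext fun U => (hval U).1)
  have hpo : IsPushout i j a' b' := IsPushout.of_map (Over.forget S) (Over.OverMorphism.ext hw') hpoS
  have hWe := repWith_of_isPullback qW.flip hφ
  have hWs := repWith_of_isPullback qW.flip hφs
  have pY : IsPullback lY ((yon S).map a') a.hom lW := by
    refine IsPullback.of_bot ?_ ?_ qW
    · rw [← Functor.map_comp, a₂, ea]; exact qY
    · rw [ha', qW.lift_fst]
  have pZ : IsPullback lZ ((yon S).map b') b.hom lW := by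
    refine IsPullback.of_bot ?_ ?_ qW
    · rw [← Functor.map_comp, b₂, eb]; exact qZ
    · rw [hb', qW.lift_fst]
  have hw : c ≫ a = d ≫ b := ObjectProperty.hom_ext _ ((cancel_mono w.hom).1 (by
    show (c.hom ≫ a.hom) ≫ w.hom = (d.hom ≫ b.hom) ≫ w.hom
    rw [Category.assoc, Category.assoc, ea, eb, ec, ed]))
  choose m hm huq using fun s : PushoutCocone c d =>
    existsUnique_desc_of_chart hWe hWs pY pZ hpo (cY := c.hom) (cZ := d.hom) (lV := lV)
      (by rw [hi, qY.lift_fst]) (by rw [hj, qZ.lift_fst]) s.pt s.inl.hom s.inr.hom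
      (congrArg (fun k : V ⟶ s.pt => k.hom) s.condition)
  exact ⟨⟨hw⟩, ⟨PushoutCocone.IsColimit.mk hw (fun s => ObjectProperty.homMk (m s))
    (fun s => ObjectProperty.hom_ext _ (hm s).1) (fun s => ObjectProperty.hom_ext _ (hm s).2)
    (fun s k h1 h2 => ObjectProperty.hom_ext _ (huq s k.hom ⟨congrArg (fun k : Y ⟶ s.pt => k.hom) h1,
      congrArg (fun k : Z ⟶ s.pt => k.hom) h2⟩))⟩⟩

end Groth.Agent.SpPush
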