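import Groth.Agent.SpPushLib.Main

/-!
# Etale schemes over the legs of a pushout along a thickening glue
-/

set_option autoImplicit false
set_option linter.all false
set_option backward.isDefEq.respectTransparency false
set_option backward.isDefEq.respectTransparency.types false

noncomputable section

universe u

open CategoryTheory CategoryTheory.Limits AlgebraicGeometry AlgSp AlgSpLib

namespace Groth.Agent.SpPush

open Groth.Agent

variable {S : Scheme.{u}} {Z X Y P : Over S} {i : Z ⟶ X} {j : Z ⟶ Y} {a : X ⟶ P} {b : Y ⟶ P}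

theorem nice_of_thickening [IsClosedImmersion i.left] [Surjective i.left] [IsAffineHom j.left] :
    ∀ y : Y.left, ∃ p : PushLib.Nice i.left j.left, y ∈ p.V :=
  fun y => PushLib.exists_nice_of_thickening i.left j.left y

/-- The second leg of a pushout along a thickening is a thickening. -/
theorem thick_inr [IsClosedImmersion i.left] [Surjective i.left] [IsAffineHom j.left] (hpo : IsPushout i j a b) :
    IsClosedImmersion b.left ∧ Surjective b.left := by
  refine ⟨PushLib.isClosedImmersion_of_isPushout nice_of_thickening (forget_isPushout hpo), ⟨fun p => ?_⟩⟩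
  rcases exists_preimage nice_of_thickening hpo p with ⟨x, rfl⟩ | h
  · obtain ⟨z, rfl⟩ := i.left.surjective x
    exact ⟨j.left z, by rw [← Scheme.Hom.comp_apply, ← Over.comp_left, ← hpo.w, Over.comp_left,
      Scheme.Hom.comp_apply]⟩
  · exact h

theorem isUH_of_thick {U V : Over S} (e : U ⟶ V) [IsClosedImmersion e.left] [Surjective e.left] :
    EtThickLib.IsUH ((yon S).map e) :=
  (UHRepLib.isUH_yon_map_iff e).2 ⟨inferInstance, inferInstance, inferInstance⟩

/-- Pushouts along a thickening and an affine morphism exist among schemes over `S`. -/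
theorem exists_pushout {Z X Y : Over S} (i : Z ⟶ X) (j : Z ⟶ Y) [IsClosedImmersion i.left] [Surjective i.left]
    [IsAffineHom j.left] : ∃ (P : Over S) (a : X ⟶ P) (b : Y ⟶ P), IsPushout i j a b := by
  have hY := nice_of_thickening (i := i) (j := j)
  obtain ⟨K, hKa, hKb⟩ := PushLib.Nice.exists_desc hY X.hom Y.hom (by rw [Over.w, Over.w])
  refine ⟨Over.mk K, Over.homMk (PushLib.Nice.a hY) hKa, Over.homMk (PushLib.Nice.b hY) hKb, ?_⟩
  exact IsPushout.of_map (Over.forget S) (Over.OverMorphism.ext (PushLib.Nice.w hY)) (PushLib.Nice.isPushout hY)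

/-- Etale schemes over the legs which agree on the intersection glue to an etale scheme over the pushout. -/
theorem exists_glue [IsClosedImmersion i.left] [Surjective i.left] [IsAffineHom j.left] (hpo : IsPushout i j a b)
    {RX R1 R : Over S} {f1 : R1 ⟶ X} {g : R ⟶ Y} {h : RX ⟶ Z} [Etale f1.left] [Etale g.left]
    {i' : RX ⟶ R1} {j' : RX ⟶ R} (hX : IsPullback h i' i f1) (hY' : IsPullback h j' j g) :
    ∃ (L : Over S) (k : L ⟶ P) (a' : R1 ⟶ L) (b' : R ⟶ L), Etale k.left ∧
      IsPullback f1 a' a k ∧ IsPullback g b' b k ∧ IsPushout i' j' a' b' := by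
  have hn := nice_of_thickening (i := i) (j := j)
  obtain ⟨_, _⟩ := thick_inr hpo
  obtain ⟨L, k, b', hk, sqk⟩ := EtThickLib.exists_lift_over_uh b (isUH_of_thick b) g inferInstance
  haveI := hk
  have hYk : IsPullback g b' b k := sqk.flip
  have hXk := IsPullback.of_hasPullback a k
  have hZk := IsPullback.of_hasPullback i (pullback.fst a k)
  let pLX : pullback a k ⟶ X := pullback.fst a k
  let jL := hYk.lift (pullback.fst i pLX ≫ j) (pullback.snd i pLX ≫ pullback.snd a k)
    (by
      have e1 : pullback.fst i pLX ≫ i = pullback.snd i pLX ≫ pullback.fst a k := hZk.w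
      rw [Category.assoc, ← hpo.w, reassoc_of% e1, hXk.w, Category.assoc])
  have hZY : IsPullback (pullback.fst i pLX) jL j g := by
    refine IsPullback.of_bot ?_ (hYk.lift_fst _ _ _).symm hYk
    rw [← hpo.w, hYk.lift_snd]
    exact hZk.paste_vert hXk
  let ε := hY'.isoIsPullback _ _ hZY
  have hε₁ : ε.hom ≫ pullback.fst i pLX = h := hY'.isoIsPullback_hom_fst _ _ hZY
  have hε₂ : ε.hom ≫ jL = j' := hY'.isoIsPullback_hom_snd _ _ hZY
  haveI : Etale pLX.left := MorphismProperty.of_isPullback ((hXk.map (Over.forget S)).flip) hk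
  have he1 : RepWith @Etale ((yon S).map f1) :=
    (repWith_yon_map_iff (P := (@Etale : MorphismProperty Scheme.{u})) f1).2 inferInstance
  have he2 : RepWith @Etale ((yon S).map pLX) :=
    (repWith_yon_map_iff (P := (@Etale : MorphismProperty Scheme.{u})) pLX).2 inferInstance
  have hu1 : EtThickLib.IsUH ((yon S).map (pullback.snd i pLX)) := (isUH_of_thick i).of_isPullback (hZk.map (yon S))
  have hu2 : EtThickLib.IsUH ((yon S).map i') := (isUH_of_thick i).of_isPullback (hX.map (yon S))
  have hA := IsAlgSpace.yon_obj (S := S) X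
  obtain ⟨m, hm₁, hm₂⟩ := hu1.exists_extend hA he1 (ε.inv ≫ i') ((yon S).map pLX) (by
    rw [← Functor.map_comp, ← Functor.map_comp, Category.assoc, ← hX.w, ← hε₁]
    simp only [Category.assoc, Iso.inv_hom_id_assoc]
    rw [hZk.w])
  obtain ⟨n, hn₁, hn₂⟩ := hu2.exists_extend hA he2 (ε.hom ≫ pullback.snd i pLX) ((yon S).map f1) (by
    rw [← Functor.map_comp, ← Functor.map_comp, Category.assoc, ← hZk.w, reassoc_of% hε₁, hX.w])
  have hm₂' : m ≫ f1 = pLX := (yon S).map_injective (by rw [Functor.map_comp, hm₂])
  have hn₂' : n ≫ pLX = f1 := (yon S).map_injective (by rw [Functor.map_comp, hn₂])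
  let e : R1 ≅ pullback a k :=
    { hom := n
      inv := m
      hom_inv_id := hu2.eq_of_restrict hA he1
        (by rw [← Functor.map_comp, ← Functor.map_comp, Category.assoc, hm₂', hn₂', Category.id_comp])
        (by rw [reassoc_of% hn₁, hm₁, Iso.hom_inv_id_assoc, Category.comp_id])
      inv_hom_id := hu1.eq_of_restrict hA he2
        (by rw [← Functor.map_comp, ← Functor.map_comp, Category.assoc, hn₂', hm₂', Category.id_comp])
        (by rw [reassoc_of% hm₁, hn₁, Iso.inv_hom_id_assoc, Category.comp_id]) }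
  have hXk' : IsPullback f1 (n ≫ pullback.snd a k) a k :=
    hXk.of_iso e.symm (Iso.refl _) (Iso.refl _) (Iso.refl _) (by simp [e, hm₂', pLX])
      (by rw [Iso.refl_hom, Category.comp_id]; exact (e.inv_hom_id_assoc _).symm) (by simp) (by simp)
  refine ⟨L, k, n ≫ pullback.snd a k, b', hk, hXk', hYk, ?_⟩
  refine isPushout_of_flat hn hpo k hXk' hYk hX j' hY'.w.symm ?_
  rw [reassoc_of% hn₁, ← hε₂, Category.assoc, hYk.lift_snd]

end Groth.Agent.SpPush
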